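import Mathlib

/-!
Numerical data for the centraliser of an element of order five in groups of Janko-four type.
-/

set_option autoImplicit false

namespace CfsgLib.Spor.JankoFourFive

/-- an element of order five of the stabiliser of the duad `{0, 23}` in `M24` -/
def sigC : ℕ := 984167617869569514546907228281656352

/-- an element of order four squaring it by conjugation -/
def sqrC : ℕ := 956905560067691225043947938942356160

/-- the search plan for its centraliser -/
def sigPlan : List (ℕ × ℕ × List ℕ) := [(2, 5, []),
  (3, 5, []),
  (0, 1, []),
  (23, 1, []),
  (6, 5, [42232, 535268, 560668, 1050548, 1090380, 1584464, 1608104, 2101096, 2141072, 2631052, 2654580, 3147996]),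
  (12, 5, [15777, 21116, 28637, 39257, 52005, 63108, 72588, 75309, 84464, 95313, 99029, 114548]),
  (1, 1, [5279, 10558, 18147, 31554, 36294, 45159, 57274, 57883, 69395, 78514, 89455, 90318]),
  (22, 1, [4196943, 4202192, 4203377, 4208622, 4213932, 4216883, 4220306, 4223245, 4229001, 4231958, 4239031, 4241960])]

/-- the mask of the duad -/
def duadM : ℕ := 8388609

end CfsgLib.Spor.JankoFourFive
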