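import Cfsg.Agent.Lib.Spor.CentralizerCert
import Cfsg.Agent.Lib.Spor.JankoFourCentral.Checks
import Cfsg.Agent.Lib.Spor.JankoFourFive.Data

/-!
Kernel checks for the centraliser of an element of order five in groups of Janko-four type.
-/

set_option autoImplicit false
set_option maxRecDepth 100000

namespace CfsgLib.Spor.JankoFourFive

open Cfsg CfsgLib.Spor CfsgLib.MathieuOut

/-- the fixed vectors of the element of order five -/
def fixV : List ℕ := JankoFourCentral.vList.filter fun m => inCode (Nat.xor m (actP sigC m))

theorem sig_checks :
    inStabP [duadM] [] sigC = true ∧ inStabP [duadM] [] sqrC = true ∧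
    eqP (powP sigC 5) idP = true ∧ eqP sigC idP = false ∧
    eqP (powP sqrC 4) idP = true ∧ eqP (powP sqrC 2) idP = false ∧
    eqP (compP sqrC sigC) (compP (powP sigC 2) sqrC) = true ∧
    eqP (powP sigC 2) sigC = false := by
  decide +kernel

theorem plan_check : planOK sigC sigPlan [] = true := by decide +kernel

theorem cent_check : centListOK [duadM] [] sigC sigPlan = true := by decide +kernel

theorem cent_nodup : (dfs [duadM] [] sigC sigC sigPlan []).Nodup := by decide +kernel

theorem cent_length : (dfs [duadM] [] sigC sigC sigPlan []).length = 10 := by decide +kernel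

theorem fix_check : fixV.length = 8 := by decide +kernel

theorem duad_check : Nat.beq (pop duadM) 2 = true ∧ duadM < 16777216 := by decide +kernel

theorem other_tetrad :
    (JankoFourCentral.wMasks.any fun w => Nat.beq (pop w) 4 && Nat.blt w 16777216 &&
      !inCode (Nat.xor 15 w)) = true := by
  decide +kernel

end CfsgLib.Spor.JankoFourFive
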