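import Cfsg.Agent.Lib.Spor.JankoFourCentral.Central
import Cfsg.Agent.Lib.Spor.JankoFourCentral.AutM22
import Cfsg.Agent.Lib.Spor.JankoFourFive.Checks

/-!
The side of an involution of the second kind in the order-five analysis of a group of Janko-four
type: its centraliser meets the centraliser of an element of order five in a group of order `80`,
an element of order five is conjugate to its square by an element of order four, and the core of
the centraliser of the central involution contains a conjugate of it other than itself.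
-/

set_option autoImplicit false
set_option linter.unusedSectionVars false
set_option linter.style.haveILetI false
set_option maxRecDepth 100000

namespace CfsgLib.Spor.JankoFourFive

open Cfsg CfsgLib.Spor CfsgLib.MathieuOut CfsgLib.Spor.JankoFourCentral
open scoped Pointwise

section General

variable {G : Type*} [Group G] [Finite G]

/-- two subgroups of prime order `p` are conjugate when `p^2` does not divide the order -/
theorem exists_conj_of_card_prime {p : ℕ} [hp : Fact p.Prime] {H : Subgroup G}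
    (h2 : ¬ p ^ 2 ∣ Nat.card H) {q r : G} (hqH : q ∈ H) (hrH : r ∈ H) (hq : orderOf q = p)
    (hr : orderOf r = p) : ∃ c ∈ H, ∃ q' ∈ Subgroup.zpowers r, q' ≠ 1 ∧ c * q * c⁻¹ = q' := by
  have hS : Nat.card (Subgroup.zpowers (⟨q, hqH⟩ : H)) = p := by
    rw [Nat.card_zpowers, Subgroup.orderOf_mk, hq]
  have hR : Nat.card (Subgroup.zpowers (⟨r, hrH⟩ : H)) = p := by
    rw [Nat.card_zpowers, Subgroup.orderOf_mk, hr]
  have hd : p ∣ Nat.card H := hS ▸ Subgroup.card_subgroup_dvd_card _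
  have hf : (Nat.card H).factorization p = 1 := by
    apply le_antisymm
    · by_contra h
      exact h2 ((Nat.Prime.pow_dvd_iff_le_factorization hp.out Nat.card_pos.ne').2 (by omega))
    · exact (Nat.Prime.pow_dvd_iff_le_factorization hp.out Nat.card_pos.ne').1 (by rwa [pow_one])
  let P : Sylow p H := Sylow.ofCard _ (by rw [hS, hf, pow_one])
  let R : Sylow p H := Sylow.ofCard (Subgroup.zpowers (⟨r, hrH⟩ : H)) (by rw [hR, hf, pow_one])
  obtain ⟨c, hc⟩ := MulAction.exists_smul_eq H P R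
  have h1 : MulAut.conj c • (⟨q, hqH⟩ : H) ∈ (c • P : Sylow p H) :=
    Subgroup.smul_mem_pointwise_smul _ _ _
      (show (⟨q, hqH⟩ : H) ∈ (P : Subgroup H) by
        rw [Sylow.coe_ofCard]; exact Subgroup.mem_zpowers _)
  rw [hc] at h1
  have h2' : c * (⟨q, hqH⟩ : H) * c⁻¹ ∈ Subgroup.zpowers (⟨r, hrH⟩ : H) := by
    rw [← Sylow.coe_ofCard (Subgroup.zpowers (⟨r, hrH⟩ : H)) (by rw [hR, hf, pow_one])]
    exact h1
  obtain ⟨i, hi⟩ := Subgroup.mem_zpowers_iff.1 h2'
  have hi' : r ^ i = (c : G) * q * (c : G)⁻¹ := by simpa using congrArg Subtype.val hi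
  refine ⟨c, c.2, _, hi' ▸ Subgroup.zpow_mem_zpowers r i, fun e => ?_, rfl⟩
  rw [conj_eq_one_iff] at e
  rw [e, orderOf_one] at hq
  exact hp.out.ne_one hq.symm

/-- a nontrivial element of a subgroup of prime order has the same centraliser -/
theorem centralizer_eq_of_mem_zpowers {p : ℕ} [hp : Fact p.Prime] {r q : G} (hr : orderOf r = p)
    (hq : q ∈ Subgroup.zpowers r) (hq1 : q ≠ 1) :
    Subgroup.centralizer ({q} : Set G) = Subgroup.centralizer ({r} : Set G) := by
  have hle : Subgroup.zpowers q ≤ Subgroup.zpowers r := Subgroup.zpowers_le.2 hq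
  have hcard : Nat.card (Subgroup.zpowers q) = p :=
    ((Nat.dvd_prime hp.out).1 (by
      simpa [Nat.card_zpowers, hr] using Subgroup.card_dvd_of_le hle)).resolve_left fun h => hq1 (by
        rwa [Nat.card_zpowers, orderOf_eq_one_iff] at h)
  have heq : Subgroup.zpowers q = Subgroup.zpowers r :=
    Subgroup.eq_of_le_of_card_ge hle (by rw [hcard, Nat.card_zpowers, hr])
  have hr' : r ∈ Subgroup.zpowers q := heq ▸ Subgroup.mem_zpowers r
  ext g
  simp only [Subgroup.mem_centralizer_singleton_iff]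
  constructor
  · intro h
    obtain ⟨i, rfl⟩ := Subgroup.mem_zpowers_iff.1 hr'
    exact (Commute.zpow_right h i).eq
  · intro h
    obtain ⟨i, rfl⟩ := Subgroup.mem_zpowers_iff.1 hq
    exact (Commute.zpow_right h i).eq

theorem card_cent_conj (c u q : G) :
    Nat.card ↥(Subgroup.centralizer ({c * u * c⁻¹} : Set G) ⊓
        Subgroup.centralizer ({c * q * c⁻¹} : Set G)) =
      Nat.card ↥(Subgroup.centralizer ({u} : Set G) ⊓ Subgroup.centralizer ({q} : Set G)) := by
  have key : ∀ a g : G, g * a = a * g ↔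
      MulAut.conj c g * (c * a * c⁻¹) = c * a * c⁻¹ * MulAut.conj c g := fun a g => by
    rw [show c * a * c⁻¹ = MulAut.conj c a from (MulAut.conj_apply _ _).symm, ← map_mul, ← map_mul,
      (MulAut.conj c).injective.eq_iff]
  exact (Nat.card_congr ((MulAut.conj c).toEquiv.subtypeEquiv fun g => by
    show g ∈ Subgroup.centralizer ({u} : Set G) ⊓ Subgroup.centralizer ({q} : Set G) ↔
      MulAut.conj c g ∈ Subgroup.centralizer ({c * u * c⁻¹} : Set G) ⊓
        Subgroup.centralizer ({c * q * c⁻¹} : Set G)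
    simp only [Subgroup.mem_inf, Subgroup.mem_centralizer_singleton_iff]
    exact and_congr (key u g) (key q g))).symm

end General

theorem mem_spanList_of_mem {b : ℕ} : ∀ {l : List ℕ}, b ∈ l → b ∈ spanList l := by
  have h0 : ∀ l : List ℕ, 0 ∈ spanList l := by
    intro l
    induction l with
    | nil => simp [spanList]
    | cons x xs ih => exact List.mem_append_left _ ih
  intro l
  induction l with
  | nil => simp
  | cons x xs ih =>
    intro h
    rcases List.mem_cons.1 h with rfl | h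
    · exact List.mem_append_right _ (List.mem_map.2 ⟨0, h0 xs, Nat.xor_zero b⟩)
    · exact List.mem_append_left _ (ih h)

theorem toSet_duadM : toSet duadM = {pt 0, pt 23} := by decide +kernel

theorem card_duad : (toSet duadM).card = 2 := by
  rw [card_toSet]; simpa using duad_check.1

theorem ev_duad : Ev duadM := ⟨duad_check.2, by rw [card_duad]; decide⟩

theorem duadStab_eq : stabG [duadM] [] =
    M24 ⊓ MulAction.stabilizer (Equiv.Perm GolayPt) ({none, some 0} : Set GolayPt) := by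
  ext g
  have hset : ((toSet duadM : Finset GolayPt) : Set GolayPt) = ({none, some 0} : Set GolayPt) := by
    rw [toSet_duadM, Finset.coe_pair, Set.pair_comm]
    rfl
  rw [mem_stabG, Subgroup.mem_inf]
  refine and_congr_right fun _ => ?_
  rw [MulAction.mem_stabilizer_iff, ← hset, ← Finset.coe_smul_finset, Finset.coe_inj]
  simp

/-- the element of order five of the duad stabiliser -/
theorem exists_sig :
    ∃ σ τ : M24, Rep (σ : Equiv.Perm GolayPt) sigC ∧ Rep (τ : Equiv.Perm GolayPt) sqrC ∧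
      (σ : Equiv.Perm GolayPt) ∈ stabG [duadM] [] ∧
      orderOf σ = 5 ∧ orderOf τ = 4 ∧ τ * σ * τ⁻¹ = σ ^ 2 := by
  haveI : Fact (Nat.Prime 5) := ⟨by norm_num⟩
  haveI : Fact (Nat.Prime 2) := ⟨by norm_num⟩
  obtain ⟨h1, h2, h5, hne, h4, h22, hc, -⟩ := sig_checks
  obtain ⟨σ, hσ, rσ⟩ := exists_stab_rep (prev := []) rfl h1
  obtain ⟨τ, hτ, rτ⟩ := exists_stab_rep (prev := []) rfl h2
  refine ⟨⟨σ, (mem_stabG.1 hσ).1⟩, ⟨τ, (mem_stabG.1 hτ).1⟩, rσ, rτ, hσ, ?_, ?_, ?_⟩
  · rw [Subgroup.orderOf_mk]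
    refine orderOf_eq_prime ((eqP_iff (rσ.pow 5) (rep_one : Rep 1 CfsgLib.Spor.idP)).1 h5) fun e => ?_
    exact absurd (hne.symm.trans ((eqP_iff rσ (rep_one : Rep 1 CfsgLib.Spor.idP)).2 e)) (by decide)
  · rw [Subgroup.orderOf_mk]
    refine orderOf_eq_prime_pow (p := 2) (n := 1) (fun e => ?_) ((eqP_iff (rτ.pow 4) (rep_one : Rep 1 CfsgLib.Spor.idP)).1 h4)
    exact absurd (h22.symm.trans
      ((eqP_iff (rτ.pow 2) (rep_one : Rep 1 CfsgLib.Spor.idP)).2 (by simpa using e))) (by decide)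
  · refine mul_inv_eq_iff_eq_mul.2 (Subtype.ext ?_)
    simpa using (eqP_iff (rτ.mul rσ) ((rσ.pow 2).mul rτ)).1 hc

/-- the centraliser of the element of order five in the duad stabiliser -/
theorem card_cent_stab (A : stabG [duadM] []) (hA : Rep (A : Equiv.Perm GolayPt) sigC) :
    Nat.card (Subgroup.centralizer ({A} : Set (stabG [duadM] []))) = 10 :=
  natCard_centralizer_cert rfl rfl plan_check cent_check cent_nodup cent_length A hA

/-- An element of order five of the automorphism group of `M22` has centraliser of order `10`. -/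
theorem card_centralizer_aut_five (q : MulAut ↥Cfsg.Spor.M22) (hq : orderOf q = 5) :
    Nat.card ↥(Subgroup.centralizer ({q} : Set (MulAut ↥Cfsg.Spor.M22))) = 10 := by
  haveI : Fact (Nat.Prime 5) := ⟨by norm_num⟩
  obtain ⟨e⟩ := nonempty_duadStab_autM22
  let e' := (MulEquiv.subgroupCongr duadStab_eq).trans e
  obtain ⟨a, rfl⟩ := e'.surjective q
  rw [MulEquiv.orderOf_eq] at hq
  obtain ⟨σ, -, rσ, -, hσ, hσ5, -, -⟩ := exists_sig
  have hr : orderOf (⟨σ, hσ⟩ : stabG [duadM] []) = 5 := by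
    rw [Subgroup.orderOf_mk, Subgroup.orderOf_coe, hσ5]
  have hcard : Nat.card (stabG [duadM] []) = 2 * 443520 := by rw [duadStab_eq, natCard_duadStab]
  obtain ⟨c, -, q', hq', hq1, hc⟩ := exists_conj_of_card_prime (H := ⊤) (p := 5)
    (by rw [Subgroup.card_top, hcard]; norm_num) (Subgroup.mem_top a)
    (Subgroup.mem_top (⟨σ, hσ⟩ : stabG [duadM] [])) hq hr
  have h10 := card_cent_stab ⟨σ, hσ⟩ rσ
  rw [← centralizer_eq_of_mem_zpowers hr hq' hq1, ← hc] at h10
  have h1 : Nat.card ↥(Subgroup.centralizer ({a} : Set (stabG [duadM] []))) = 10 := by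
    rw [← h10]
    refine Nat.card_congr ((MulAut.conj c).toEquiv.subtypeEquiv fun g => ?_)
    show g ∈ Subgroup.centralizer ({a} : Set _) ↔
      MulAut.conj c g ∈ Subgroup.centralizer ({c * a * c⁻¹} : Set _)
    rw [Subgroup.mem_centralizer_singleton_iff, Subgroup.mem_centralizer_singleton_iff,
      show c * a * c⁻¹ = MulAut.conj c a from (MulAut.conj_apply _ _).symm, ← map_mul, ← map_mul,
      (MulAut.conj c).injective.eq_iff]
  rw [← h1]
  exact (Nat.card_congr (e'.toEquiv.subtypeEquiv fun g => by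
    show g ∈ Subgroup.centralizer ({a} : Set _) ↔ e' g ∈ Subgroup.centralizer ({e' a} : Set _)
    rw [Subgroup.mem_centralizer_singleton_iff, Subgroup.mem_centralizer_singleton_iff,
      ← map_mul, ← map_mul, e'.injective.eq_iff])).symm

variable {G : Type*} [Group G] [Finite G] {z : G} {A : Type*} [AddCommGroup A] (D : Eleven z A)

theorem vList_length : vList.length = 2048 := by decide +kernel

theorem vm_injOn : ∀ a ∈ vList, ∀ b ∈ vList, D.vm a = D.vm b → a = b := by
  classical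
  let f : Fin vList.length → D.V := fun i => ⟨D.vm vList[i], D.vm_mem _⟩
  have hs : Function.Surjective f := fun v => by
    obtain ⟨m, hm, e⟩ := D.exists_vm v.2
    obtain ⟨i, hi, rfl⟩ := List.getElem_of_mem hm
    exact ⟨⟨i, hi⟩, Subtype.ext e⟩
  have hb : Function.Bijective f := (Nat.bijective_iff_surjective_and_card f).2
    ⟨hs, by rw [Nat.card_eq_fintype_card, Fintype.card_fin, vList_length, D.card]; norm_num⟩
  intro a ha b hb' e
  obtain ⟨i, hi, rfl⟩ := List.getElem_of_mem ha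
  obtain ⟨j, hj, rfl⟩ := List.getElem_of_mem hb'
  exact congrArg (fun k : Fin vList.length => vList[k])
    (hb.1 (a₁ := ⟨i, hi⟩) (a₂ := ⟨j, hj⟩) (Subtype.ext e))

include D in
theorem vList_nodup : vList.Nodup := by
  classical
  let f : Fin vList.length → D.V := fun i => ⟨D.vm vList[i], D.vm_mem _⟩
  have hs : Function.Surjective f := fun v => by
    obtain ⟨m, hm, e⟩ := D.exists_vm v.2
    obtain ⟨i, hi, rfl⟩ := List.getElem_of_mem hm
    exact ⟨⟨i, hi⟩, Subtype.ext e⟩
  have hb : Function.Bijective f := (Nat.bijective_iff_surjective_and_card f).2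
    ⟨hs, by rw [Nat.card_eq_fintype_card, Fintype.card_fin, vList_length, D.card]; norm_num⟩
  rw [List.nodup_iff_injective_get]
  intro i j e
  exact hb.1 (Subtype.ext (congrArg D.vm e))

/-- the fixed vectors of the element of order five -/
theorem card_fixed {σ : M24} (hσ : Rep (σ : Equiv.Perm GolayPt) sigC) :
    Nat.card {v : D.V // D.L σ * (v : G) * (D.L σ)⁻¹ = v} = 8 := by
  classical
  have hfix : ∀ m ∈ vList, D.L σ * D.vm m * (D.L σ)⁻¹ = D.vm m ↔ m ∈ fixV := by
    intro m hm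
    rw [D.L_vm hσ (ev_vList hm), fixV, List.mem_filter]
    refine ⟨fun h => ⟨hm, ?_⟩, fun h => ?_⟩
    · exact D.inCode_of_vm_eq_one ((ev_vList hm).xor (ev_of_rep hσ (ev_vList hm)))
        (by show D.vm (m ^^^ actP sigC m) = 1; rw [D.vm_xor, h, D.vm_sq])
    · exact (D.vm_eq (ev_vList hm) (ev_of_rep hσ (ev_vList hm)) h.2).symm
  have hsub : ∀ m ∈ fixV, m ∈ vList := fun m hm => (List.mem_filter.1 hm).1
  have e : ((Finset.univ : Finset {m // m ∈ fixV.toFinset}).card) = 8 := by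
    rw [Finset.card_univ, Fintype.card_coe,
      List.toFinset_card_of_nodup (show fixV.Nodup from (vList_nodup D).filter _), fix_check]
  rw [← e, Finset.card_univ, ← Nat.card_eq_fintype_card]
  refine (Nat.card_eq_of_bijective (fun m : {m // m ∈ fixV.toFinset} =>
    (⟨⟨D.vm m.1, D.vm_mem _⟩, (hfix m.1 (hsub _ (List.mem_toFinset.1 m.2))).2
      (List.mem_toFinset.1 m.2)⟩ : {v : D.V // D.L σ * (v : G) * (D.L σ)⁻¹ = v}))
    ⟨?_, ?_⟩).symm
  · intro a b h
    exact Subtype.ext (vm_injOn D _ (hsub _ (List.mem_toFinset.1 a.2)) _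
      (hsub _ (List.mem_toFinset.1 b.2)) (congrArg (fun w => w.1.1) h))
  · rintro ⟨⟨v, hv⟩, hvfix⟩
    obtain ⟨m, hm, rfl⟩ := D.exists_vm hv
    exact ⟨⟨m, List.mem_toFinset.2 ((hfix m hm).1 hvfix)⟩, rfl⟩

theorem decompose_unique {v w : G} (hv : v ∈ D.V) (hw : w ∈ D.V) {σ τ : M24}
    (h : v * D.L σ = w * D.L τ) : v = w ∧ σ = τ := by
  have h1 : w⁻¹ * v = D.L τ * (D.L σ)⁻¹ := by
    rw [eq_mul_inv_iff_mul_eq, mul_assoc, h, inv_mul_cancel_left]
  have h2 : D.L (τ * σ⁻¹) ∈ D.K ⊓ D.V := by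
    refine ⟨D.L_mem_K _, ?_⟩
    rw [D.L_mul, D.L_inv, ← h1]
    exact D.V.mul_mem (D.V.inv_mem hw) hv
  rw [D.inf, Subgroup.mem_bot, ← D.L_one] at h2
  have hst : τ = σ := mul_inv_eq_one.1 (D.L_inj h2)
  subst hst
  exact ⟨mul_right_cancel h, rfl⟩

theorem vm_duad_ne_one : D.vm duadM ≠ 1 := by
  intro h
  have h1 : D.C.S (toSet duadM) = D.C.S ∅ := D.ι_inj (by
    rw [show D.ι (D.C.S (toSet duadM)) = D.vm duadM from rfl, h]
    exact D.ι_zero.symm)
  have := D.C.S_inj (by rw [card_duad]; decide) (by rw [card_duad]; decide) h1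
  have hc := card_duad
  rw [this] at hc
  simp at hc

theorem vm_duad_not_conj : ¬ IsConj z (D.vm duadM) := by
  refine (D.duad _ fun h => vm_duad_ne_one D ?_).1 (D.C.mem_duads_iff.2 ⟨_, card_duad, rfl⟩)
  show D.ι (D.C.S (toSet duadM)) = 1
  rw [h, D.ι_zero]

theorem L_cent_duad (σ : M24) :
    D.L σ * D.vm duadM = D.vm duadM * D.L σ ↔ (σ : Equiv.Perm GolayPt) ∈ stabG [duadM] [] := by
  rw [← mul_inv_eq_iff_eq_mul, vm_def_conj, mem_stabG]
  refine ⟨fun h => ⟨σ.2, ?_, by simp⟩, fun h => by rw [h.2.1 duadM (by simp)]; rfl⟩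
  simp only [List.mem_singleton, forall_eq]
  exact D.C.S_inj (by rw [Finset.card_smul_finset, card_duad]; decide)
    (by rw [Finset.card_smul_finset, card_duad]; decide) (D.ι_inj h)
where
  vm_def_conj : D.L σ * D.vm duadM * (D.L σ)⁻¹ =
      D.ι (D.C.S ((σ : Equiv.Perm GolayPt) • toSet duadM)) := D.L_conj σ ev_duad.2

/-- every involution outside the class of `z` is conjugate to the vector of the duad -/
theorem exists_conj_duad (hJ : Cfsg.IsOfJankoFourTypeAt z)
    (hfuse : ∀ x ∈ twoCoreOfCentralizer z, x * x = 1 → ∃ g : G, g * x * g⁻¹ ∈ D.V)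
    {u : G} (hu : orderOf u = 2) (hnc : ¬ IsConj z u) : ∃ g : G, g * u * g⁻¹ = D.vm duadM := by
  have hz : orderOf z = 2 := hJ.choose_spec.1
  have hu2 : u * u = 1 := by rw [← pow_two, ← hu, pow_orderOf_eq_one]
  obtain ⟨g, hg⟩ := D.exists_conj_mem hz (D.E₀_nonabelian hJ) hfuse hu2
  obtain ⟨c, hc⟩ := (D.mem_V _).1 hg
  have hc0 : c ≠ 0 := fun e => by
    have h1 : g * u * g⁻¹ = 1 := by rw [← hc, e, D.ι_zero]
    rw [conj_eq_one_iff] at h1
    rw [h1, orderOf_one] at hu
    norm_num at hu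
  have hd : c ∈ D.C.duads := (D.duad c hc0).2 (by
    rw [hc]
    exact fun h => hnc (h.trans (isConj_iff.2 ⟨g, rfl⟩).symm))
  obtain ⟨k, hk⟩ := D.acts.trans_duads hd (D.C.mem_duads_iff.2 ⟨toSet duadM, card_duad, rfl⟩)
  refine ⟨(k : G) * g, ?_⟩
  have e := D.ι_act k c
  rw [hk, hc] at e
  show (k : G) * g * u * ((k : G) * g)⁻¹ = D.ι (D.C.S (toSet duadM))
  rw [e]
  group

/-- the centraliser of the vector of the duad has no subgroup of order `25` -/
theorem five_cent_duad (hJ : Cfsg.IsOfJankoFourTypeAt z)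
    (hfuse : ∀ x ∈ twoCoreOfCentralizer z, x * x = 1 → ∃ g : G, g * x * g⁻¹ ∈ D.V)
    (hcent : ∀ t ∈ D.V, t ≠ 1 → ¬ IsConj z t →
      Subgroup.centralizer ({t} : Set G) ≤ Subgroup.normalizer (D.V : Set G)) :
    ¬ 5 ^ 2 ∣ Nat.card (Subgroup.centralizer ({D.vm duadM} : Set G)) := by
  haveI : Fact (Nat.Prime 2) := ⟨by norm_num⟩
  obtain ⟨V, K, hV, hK, hN, -, hc, hinf, hsup, ⟨e⟩⟩ := D.centralizer_structure hJ hfuse hcent
    (Y := ↥(Cfsg.M24 ⊓ MulAction.stabilizer (Equiv.Perm Cfsg.GolayPt)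
      ({none, some 0} : Set Cfsg.GolayPt))) ⟨MulEquiv.refl _⟩ (D.vm duadM)
    (orderOf_eq_prime (by rw [pow_two]; exact D.vm_sq _) (vm_duad_ne_one D)) (vm_duad_not_conj D)
  have hKc : Nat.card K = 2 * 443520 := by rw [Nat.card_congr e.toEquiv, natCard_duadStab]
  have h : Nat.card (Subgroup.centralizer ({D.vm duadM} : Set G)) = 2 ^ 11 * (2 * 443520) := by
    rw [← hc, ← hKc, ← Nat.card_prod]
    refine (Nat.card_eq_of_bijective
      (fun x : V × K => (⟨(x.1 : G) * x.2, mul_mem (hV x.1.2) (hK x.2.2)⟩ :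
        ↥(Subgroup.centralizer ({D.vm duadM} : Set G)))) ⟨?_, ?_⟩).symm
    · intro x y e
      exact Subgroup.mul_injective_of_disjoint
        (disjoint_iff.2 (by rw [inf_comm]; exact hinf)) (congrArg Subtype.val e)
    · rintro ⟨g, hg⟩
      have : g ∈ (↑(V ⊔ K) : Set G) := by rw [sup_comm, hsup]; exact hg
      rw [Subgroup.coe_mul_of_right_le_normalizer_left _ _ (hK.trans hN)] at this
      obtain ⟨v, hv, k, hk, rfl⟩ := this
      exact ⟨(⟨v, hv⟩, ⟨k, hk⟩), rfl⟩
  rw [h]
  norm_num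

/-- An element of order five centralising an involution outside the class of `z` has with it a
common centraliser of order `80`. -/
theorem card_cent_five (hJ : Cfsg.IsOfJankoFourTypeAt z)
    (hfuse : ∀ x ∈ twoCoreOfCentralizer z, x * x = 1 → ∃ g : G, g * x * g⁻¹ ∈ D.V)
    (hcent : ∀ t ∈ D.V, t ≠ 1 → ¬ IsConj z t →
      Subgroup.centralizer ({t} : Set G) ≤ Subgroup.normalizer (D.V : Set G))
    (u q : G) (hu : orderOf u = 2) (hnc : ¬ IsConj z u) (hq : orderOf q = 5)
    (hc : q * u = u * q) :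
    Nat.card ↥(Subgroup.centralizer ({u} : Set G) ⊓ Subgroup.centralizer ({q} : Set G)) = 80 := by
  classical
  haveI : Fact (Nat.Prime 5) := ⟨by norm_num⟩
  obtain ⟨g, hg⟩ := exists_conj_duad D hJ hfuse hu hnc
  rw [← card_cent_conj g u q, hg]
  set q₁ := g * q * g⁻¹ with hq₁
  have hq₁5 : orderOf q₁ = 5 := by rw [hq₁, ← MulAut.conj_apply, MulEquiv.orderOf_eq, hq]
  have hq₁c : q₁ ∈ Subgroup.centralizer ({D.vm duadM} : Set G) := by
    rw [Subgroup.mem_centralizer_singleton_iff, ← hg, hq₁]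
    calc g * q * g⁻¹ * (g * u * g⁻¹) = g * (q * u) * g⁻¹ := by group
      _ = g * (u * q) * g⁻¹ := by rw [hc]
      _ = g * u * g⁻¹ * (g * q * g⁻¹) := by group
  obtain ⟨σ, -, rσ, -, hσs, hσ5, -, -⟩ := exists_sig
  have hL5 : orderOf (D.L σ) = 5 := by
    refine orderOf_eq_prime ?_ fun e => ?_
    · have hpow : ∀ n : ℕ, D.L σ ^ n = D.L (σ ^ n) := by
        intro n
        induction n with
        | zero => rw [pow_zero, pow_zero, D.L_one]
        | succ n ih => rw [pow_succ, pow_succ, D.L_mul, ih]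
      rw [hpow, ← hσ5, pow_orderOf_eq_one, D.L_one]
    · rw [← D.L_one] at e
      rw [D.L_inj e, orderOf_one] at hσ5
      norm_num at hσ5
  have hLc : D.L σ ∈ Subgroup.centralizer ({D.vm duadM} : Set G) :=
    Subgroup.mem_centralizer_singleton_iff.2 ((L_cent_duad D σ).2 hσs)
  obtain ⟨c, hc', q', hq', hq1, hcq⟩ :=
    exists_conj_of_card_prime (five_cent_duad D hJ hfuse hcent) hq₁c hLc hq₁5 hL5
  rw [← card_cent_conj c, hcq, Subgroup.mem_centralizer_singleton_iff.1 hc', mul_inv_cancel_right,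
    centralizer_eq_of_mem_zpowers hL5 hq' hq1]
  set X := Subgroup.centralizer ({D.vm duadM} : Set G) ⊓ Subgroup.centralizer ({D.L σ} : Set G)
    with hX
  let W := {v : D.V // D.L σ * (v : G) * (D.L σ)⁻¹ = v} ×
    ↥(Subgroup.centralizer ({⟨σ, hσs⟩} : Set (stabG [duadM] [])))
  let up : ↥(stabG [duadM] []) → M24 := fun τ => ⟨τ.1, (mem_stabG.1 τ.2).1⟩
  have hcomm : ∀ τ : ↥(Subgroup.centralizer ({⟨σ, hσs⟩} : Set (stabG [duadM] []))),
      up τ.1 * σ = σ * up τ.1 := fun τ => Subtype.ext (by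
    have := congrArg Subtype.val (Subgroup.mem_centralizer_singleton_iff.1 τ.2)
    exact this)
  let f : W → X := fun p => ⟨(p.1.1 : G) * D.L (up p.2.1),
    Subgroup.mul_mem _
      ⟨Subgroup.mem_centralizer_singleton_iff.2 (by
          obtain ⟨b, hb⟩ := (D.mem_V _).1 p.1.1.2
          rw [← hb]
          exact D.ι_comm _ _),
        Subgroup.mem_centralizer_singleton_iff.2 (mul_inv_eq_iff_eq_mul.1 p.1.2).symm⟩
      ⟨Subgroup.mem_centralizer_singleton_iff.2 ((L_cent_duad D _).2 p.2.1.2),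
        Subgroup.mem_centralizer_singleton_iff.2 (by rw [← D.L_mul, ← D.L_mul, hcomm])⟩⟩
  have hf : Function.Bijective f := by
    constructor
    · rintro ⟨⟨⟨v, hv⟩, hv'⟩, ⟨⟨τ, hτ⟩, hτ'⟩⟩ ⟨⟨⟨w, hw⟩, hw'⟩, ⟨⟨ρ, hρ⟩, hρ'⟩⟩ e
      obtain ⟨e1, e2⟩ := decompose_unique D hv hw (congrArg Subtype.val e)
      obtain rfl : v = w := e1
      obtain rfl : τ = ρ := congrArg Subtype.val e2
      rfl
    · rintro ⟨x, hx1, hx2⟩
      have hN := hcent _ (D.vm_mem _) (vm_duad_ne_one D) (vm_duad_not_conj D) hx1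
      obtain ⟨v, hv, τ, rfl⟩ := D.decompose hN
      have hvc : v * D.vm duadM = D.vm duadM * v := by
        obtain ⟨b, rfl⟩ := (D.mem_V _).1 hv
        exact D.ι_comm _ _
      have h1 := Subgroup.mem_centralizer_singleton_iff.1 hx1
      have hτs : (τ : Equiv.Perm GolayPt) ∈ stabG [duadM] [] := by
        refine (L_cent_duad D τ).1 (mul_left_cancel (a := v) ?_)
        rw [← mul_assoc, ← mul_assoc, h1, hvc, mul_assoc]
      have h2 := Subgroup.mem_centralizer_singleton_iff.1 hx2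
      have hconj : D.L σ * v * (D.L σ)⁻¹ ∈ D.V :=
        (Subgroup.mem_normalizer_iff.1 (D.L_mem σ) v).1 hv
      obtain ⟨e1, e2⟩ := decompose_unique D hv hconj (σ := τ * σ) (τ := σ * τ) (by
        rw [D.L_mul, D.L_mul, ← mul_assoc, h2]
        group)
      exact ⟨⟨⟨⟨v, hv⟩, e1.symm⟩, ⟨⟨τ, hτs⟩, Subgroup.mem_centralizer_singleton_iff.2
        (Subtype.ext (congrArg Subtype.val e2 :))⟩⟩, rfl⟩
  rw [← Nat.card_eq_of_bijective f hf, Nat.card_prod, card_fixed D rσ,
    card_cent_stab ⟨(σ : Equiv.Perm GolayPt), hσs⟩ rσ]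

include D in
/-- An element of order five is conjugate to its square by an element of order four. -/
theorem exists_frobenius :
    ∃ q f : G, orderOf q = 5 ∧ orderOf f = 4 ∧ f * q * f⁻¹ = q ^ 2 := by
  obtain ⟨σ, τ, -, -, -, hσ, hτ, h⟩ := exists_sig
  let φ : M24 →* G := MonoidHom.mk' D.L D.L_mul
  have hφ : Function.Injective φ := fun a b e => D.L_inj e
  exact ⟨φ σ, φ τ, by rw [orderOf_injective φ hφ, hσ], by rw [orderOf_injective φ hφ, hτ],
    by rw [← map_inv, ← map_mul, ← map_mul, h, map_pow]⟩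

include D in
/-- The core of the centraliser of `z` contains a conjugate of `z` other than `z`. -/
theorem exists_other_conj (hJ : Cfsg.IsOfJankoFourTypeAt z) :
    ∃ x ∈ twoCoreOfCentralizer z, x ≠ z ∧ IsConj z x := by
  have hz : orderOf z = 2 := hJ.choose_spec.1
  obtain ⟨w, hw, hw'⟩ := List.any_eq_true.1 other_tetrad
  simp only [Bool.and_eq_true, Nat.beq_eq, Nat.blt_eq, Bool.not_eq_true'] at hw'
  obtain ⟨⟨hpop, hlt⟩, hcode⟩ := hw'
  have hcard : (toSet w).card = 4 := by rw [card_toSet, hpop]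
  have hev : Ev w := ⟨hlt, by rw [hcard]; decide⟩
  have hE := D.wList_mem hz (D.E₀_nonabelian hJ) w (mem_spanList_of_mem hw)
  have hne0 : D.C.S (toSet w) ≠ 0 := by
    intro h
    have := D.C.S_inj (s := toSet w) (t := ∅) (by rw [hcard]; decide) (by rw [hcard]; decide)
      (h.trans (by rfl))
    rw [this] at hcard
    simp at hcard
  have hzw : IsConj z (D.vm w) := by
    by_contra hn
    obtain ⟨P, hP, e⟩ := D.C.mem_duads_iff.1 ((D.duad _ hne0).2 hn)
    have := D.C.S_inj (by rw [hcard, hP]; decide) (by rw [hcard, hP]; decide) e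
    rw [this, hP] at hcard
    norm_num at hcard
  refine ⟨D.g₀⁻¹ * D.vm w * D.g₀, D.mem_E₀.1 hE, fun e => ?_,
    hzw.trans (isConj_iff.2 ⟨D.g₀⁻¹, by group⟩)⟩
  have h0 : D.vm w = D.vm 15 := by
    calc D.vm w = D.g₀ * (D.g₀⁻¹ * D.vm w * D.g₀) * D.g₀⁻¹ := by group
      _ = D.g₀ * z * D.g₀⁻¹ := by rw [e]
      _ = D.vm 15 := D.g₀_conj
  have h15 : inCode (15 ^^^ w) = true := D.inCode_of_vm_eq_one (Eleven.ev_fifteen.xor hev)
    (by rw [D.vm_xor, h0, D.vm_sq])
  exact absurd (hcode.symm.trans h15) (by decide)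

end CfsgLib.Spor.JankoFourFive
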