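import Cfsg.Agent.Lib.Spor.Perm24
import Cfsg.Agent.Lib.Classical.Order
import Cfsg.Agent.Lib.Small.A6Centralizer
import Cfsg.Prelude.Def_Spor_Mathieu
import Cfsg.Prelude.Def_Transfer

/-!
The four groups with an involution centraliser `2^(1+4) S3`, sieved by the orders of all the
involution centralisers: only the non-split extension of eight by the simple group of order 168 is left.
-/

set_option autoImplicit false
set_option maxRecDepth 100000
set_option linter.style.haveILetI false

open Subgroup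

namespace CfsgLib.Spor.JankoFourFive

open Cfsg CfsgLib.Spor
open scoped Pointwise

universe u

/-- A condition on the orders of the centralisers of involutions. -/
def CentOrders (J : Type u) [Group J] : Prop :=
  ∀ u : J, orderOf u = 2 →
    Nat.card ↥(centralizer ({u} : Set J)) = 192 ∨ Nat.card ↥(centralizer ({u} : Set J)) = 16

theorem CentOrders.map {J : Type u} [Group J] {H : Type*} [Group H] (hC : CentOrders J) (e : J ≃* H) :
    CentOrders H := by
  intro u hu
  have hu' : orderOf (e.symm u) = 2 := by rw [MulEquiv.orderOf_eq]; exact hu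
  have hm : (centralizer ({e.symm u} : Set J)).map e.toMonoidHom = centralizer ({u} : Set H) := by
    ext x
    constructor
    · rintro ⟨y, hy, rfl⟩
      rw [SetLike.mem_coe, mem_centralizer_singleton_iff] at hy
      rw [mem_centralizer_singleton_iff]
      have := congrArg e hy
      simpa using this
    · intro hx
      rw [mem_centralizer_singleton_iff] at hx
      refine ⟨e.symm x, ?_, by simp⟩
      rw [SetLike.mem_coe, mem_centralizer_singleton_iff, ← map_mul, hx, map_mul]
  rw [← hm, ← Nat.card_congr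
    ((centralizer ({e.symm u} : Set J)).equivMapOfInjective e.toMonoidHom e.injective).toEquiv]
  exact hC _ hu'

/-- No involution commutes with an element of order five. -/
theorem CentOrders.not_five {J : Type u} [Group J] (hC : CentOrders J) {u v : J}
    (hu : orderOf u = 2) (hv : orderOf v = 5) (huv : v * u = u * v) : False := by
  have h : 5 ∣ Nat.card ↥(centralizer ({u} : Set J)) := by
    rw [← hv, ← Subgroup.orderOf_mk v (mem_centralizer_singleton_iff.2 huv)]
    exact orderOf_dvd_natCard _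
  rcases hC u hu with e | e <;> rw [e] at h <;> norm_num at h

/-! ### The alternating groups -/

theorem not_cent_A8 : ¬ CentOrders ↥(alternatingGroup (Fin 8)) := by
  intro hC
  let s : Equiv.Perm (Fin 8) := Equiv.swap 0 1
  let x : Equiv.Perm (Fin 8) := Equiv.swap 0 1 * Equiv.swap 2 3
  let w : Equiv.Perm (Fin 8) := Equiv.swap 4 5 * Equiv.swap 5 6
  have hx : x ∈ alternatingGroup (Fin 8) := by
    rw [Equiv.Perm.mem_alternatingGroup]; decide +kernel
  have hw : w ∈ alternatingGroup (Fin 8) := by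
    rw [Equiv.Perm.mem_alternatingGroup]; decide +kernel
  let X : ↥(alternatingGroup (Fin 8)) := ⟨x, hx⟩
  have hxo : orderOf x = 2 := orderOf_eq_prime (by decide +kernel) (by decide +kernel)
  have hXo : orderOf X = 2 := by rw [Subgroup.orderOf_mk]; exact hxo
  have hwo : orderOf w = 3 := orderOf_eq_prime (by decide +kernel) (by decide +kernel)
  have h3 : 3 ∣ Nat.card ↥(centralizer ({X} : Set ↥(alternatingGroup (Fin 8)))) := by
    have hc : (⟨w, hw⟩ : ↥(alternatingGroup (Fin 8))) ∈ centralizer ({X} : Set ↥(alternatingGroup (Fin 8))) :=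
      mem_centralizer_singleton_iff.2 (Subtype.ext (show w * x = x * w by decide +kernel))
    have := orderOf_dvd_natCard
      (⟨⟨w, hw⟩, hc⟩ : ↥(centralizer ({X} : Set ↥(alternatingGroup (Fin 8)))))
    rwa [Subgroup.orderOf_mk, Subgroup.orderOf_mk, hwo] at this
  set C := centralizer ({X} : Set ↥(alternatingGroup (Fin 8))) with hCdef
  have hle : C.map (alternatingGroup (Fin 8)).subtype ≤ centralizer ({x} : Set (Equiv.Perm (Fin 8))) := by
    rintro _ ⟨y, hy, rfl⟩
    exact mem_centralizer_singleton_iff.2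
      (congrArg Subtype.val (mem_centralizer_singleton_iff.1 hy))
  have hcard : Nat.card ↥(centralizer ({x} : Set (Equiv.Perm (Fin 8)))) = 192 := by
    rw [Equiv.Perm.nat_card_centralizer]; decide +kernel
  have hs : s ∈ centralizer ({x} : Set (Equiv.Perm (Fin 8))) :=
    mem_centralizer_singleton_iff.2 (by decide +kernel)
  have hmap : Nat.card ↥(C.map (alternatingGroup (Fin 8)).subtype) = Nat.card ↥C :=
    Subgroup.card_map_of_injective Subtype.val_injective
  rcases hC X hXo with e | e
  · have heq : C.map (alternatingGroup (Fin 8)).subtype = centralizer ({x} : Set (Equiv.Perm (Fin 8))) :=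
      Subgroup.eq_of_le_of_card_ge hle (by rw [hmap, hcard, e])
    rw [← heq] at hs
    obtain ⟨y, -, hy⟩ := hs
    have : s ∈ alternatingGroup (Fin 8) := hy ▸ y.2
    rw [Equiv.Perm.mem_alternatingGroup] at this
    exact absurd this (by decide +kernel)
  · rw [e] at h3
    norm_num at h3

theorem not_cent_A9 : ¬ CentOrders ↥(alternatingGroup (Fin 9)) := by
  intro hC
  let x : Equiv.Perm (Fin 9) := Equiv.swap 0 1 * Equiv.swap 2 3
  let w : Equiv.Perm (Fin 9) := Equiv.swap 4 5 * Equiv.swap 5 6 * Equiv.swap 6 7 * Equiv.swap 7 8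
  have hx : x ∈ alternatingGroup (Fin 9) := by
    rw [Equiv.Perm.mem_alternatingGroup]; decide +kernel
  have hw : w ∈ alternatingGroup (Fin 9) := by
    rw [Equiv.Perm.mem_alternatingGroup]; decide +kernel
  haveI : Fact (Nat.Prime 5) := ⟨by norm_num⟩
  refine hC.not_five (u := ⟨x, hx⟩) (v := ⟨w, hw⟩) ?_ ?_ (Subtype.ext (show w * x = x * w by decide +kernel))
  · rw [Subgroup.orderOf_mk]; exact orderOf_eq_prime (by decide +kernel) (by decide +kernel)
  · rw [Subgroup.orderOf_mk]; exact orderOf_eq_prime (by decide +kernel) (by decide +kernel)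

/-! ### The Mathieu group -/

/-- images of the points under an element of order ten -/
def tenL : List ℕ :=
  [2, 16, 13, 6, 8, 10, 3, 11, 18, 1, 21, 7, 0, 9, 23, 5, 4, 15, 12, 20, 17, 22, 14, 19]

/-- images of the points under its inverse -/
def tenInvL : List ℕ := (List.range 24).map fun i => tenL.idxOf i

/-- an element of order ten stabilising the dodecad -/
def ten : Equiv.Perm GolayPt where
  toFun p := pt (tenL.getD (idx p) 0)
  invFun p := pt (tenInvL.getD (idx p) 0)
  left_inv := by decide +kernel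
  right_inv := by decide +kernel

theorem ten_mem : ten ∈ Cfsg.Spor.M12 :=
  ⟨(show Rep ten (packL tenL) by decide +kernel).mem_M24 (by decide +kernel),
    show ten • Cfsg.Spor.squareDodecad = Cfsg.Spor.squareDodecad by decide +kernel⟩

theorem not_cent_M12 : ¬ CentOrders ↥Cfsg.Spor.M12 := by
  intro hC
  haveI : Fact (Nat.Prime 5) := ⟨by norm_num⟩
  refine hC.not_five (u := (⟨ten, ten_mem⟩ : ↥Cfsg.Spor.M12) ^ 5)
    (v := (⟨ten, ten_mem⟩ : ↥Cfsg.Spor.M12) ^ 2) ?_ ?_
    (Commute.pow_pow (Commute.refl (⟨ten, ten_mem⟩ : ↥Cfsg.Spor.M12)) 2 5).eq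
  · rw [SubmonoidClass.mk_pow, Subgroup.orderOf_mk]
    exact orderOf_eq_prime (by decide +kernel) (by decide +kernel)
  · rw [SubmonoidClass.mk_pow, Subgroup.orderOf_mk]
    exact orderOf_eq_prime (by decide +kernel) (by decide +kernel)

/-! ### The extension of eight by the simple group of order 168 -/

/-- an involution of the special linear group -/
def invol : Matrix.SpecialLinearGroup (Fin 3) (ZMod 2) :=
  ⟨!![1, 1, 0; 0, 1, 0; 0, 0, 1], by decide +kernel⟩

theorem invol_ne : invol ≠ 1 ∧ invol * invol = 1 := by decide +kernel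

theorem card_cent_invol :
    Nat.card ↥(centralizer ({invol} : Set (Matrix.SpecialLinearGroup (Fin 3) (ZMod 2)))) = 8 := by
  have e : Nat.card ↥(centralizer ({invol} : Set (Matrix.SpecialLinearGroup (Fin 3) (ZMod 2)))) =
      Nat.card {y : Matrix.SpecialLinearGroup (Fin 3) (ZMod 2) // y * invol = invol * y} :=
    Nat.card_congr (Equiv.subtypeEquivRight fun y => mem_centralizer_singleton_iff)
  rw [e, Nat.card_eq_fintype_card]
  decide +kernel

/-- The simple group of order 168 in its two presentations. -/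
noncomputable def pslEquiv :
    Matrix.ProjectiveSpecialLinearGroup (Fin 3) (ZMod 2) ≃* Matrix.SpecialLinearGroup (Fin 3) (ZMod 2) :=
  (QuotientGroup.quotientMulEquivOfEq CfsgLib.Small.center_SL_three_two).trans QuotientGroup.quotientBot

theorem card_sl : Nat.card (Matrix.SpecialLinearGroup (Fin 3) (ZMod 2)) = 168 := by
  haveI : Fact (Nat.Prime 2) := ⟨Nat.prime_two⟩
  rw [CfsgLib.Classical.card_SL_fin', Nat.card_zmod]
  decide

theorem no_complement {J : Type u} [Group J] [Finite J] (hC : CentOrders J) (E : Subgroup J) [E.Normal]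
    (hE : Cfsg.IsElementaryAbelian 2 E) (h8 : Nat.card ↥E = 8)
    (e : J ⧸ E ≃* Matrix.SpecialLinearGroup (Fin 3) (ZMod 2)) (K : Subgroup J) :
    ¬ E.IsComplement' K := by
  intro hK
  let π : J →* Matrix.SpecialLinearGroup (Fin 3) (ZMod 2) := e.toMonoidHom.comp (QuotientGroup.mk' E)
  have hker : ∀ x : J, π x = 1 ↔ x ∈ E := fun x => by
    simp [π, QuotientGroup.eq_one_iff]
  have hsurjK : ∀ y, ∃ k ∈ K, π k = y := by
    intro y
    obtain ⟨x, hx⟩ := QuotientGroup.mk'_surjective E (e.symm y)
    obtain ⟨⟨a, k⟩, hak⟩ := hK.2 x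
    refine ⟨k, k.2, ?_⟩
    have h : π x = y := by simp only [π, MonoidHom.comp_apply, hx]; simp
    rw [← h, ← hak]
    show π k = π ((a : J) * k)
    rw [map_mul, (hker _).2 a.2, one_mul]
  have hinjK : ∀ k ∈ K, ∀ k' ∈ K, π k = π k' → k = k' := by
    intro k hk k' hk' h
    have h1 : k⁻¹ * k' ∈ E := (hker _).1 (by rw [map_mul, map_inv, h, inv_mul_cancel])
    have h2 := hK.disjoint.le_bot ⟨h1, K.mul_mem (K.inv_mem hk) hk'⟩
    rwa [Subgroup.mem_bot, inv_mul_eq_one] at h2
  obtain ⟨a, haK, ha⟩ := hsurjK invol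
  have ha2 : a * a = 1 :=
    hinjK _ (mul_mem haK haK) 1 K.one_mem (by rw [map_mul, ha, invol_ne.2, map_one])
  have haord : orderOf a = 2 := by
    refine orderOf_eq_prime (by rw [pow_two]; exact ha2) fun h => invol_ne.1 ?_
    rw [← ha, h, map_one]
  have hainv : a⁻¹ = a := inv_eq_of_mul_eq_one_right ha2
  set C := centralizer ({a} : Set J) with hCdef
  let φ : ↥C →* ↥(centralizer ({invol} : Set (Matrix.SpecialLinearGroup (Fin 3) (ZMod 2)))) :=
    (π.comp C.subtype).codRestrict _ fun x => mem_centralizer_singleton_iff.2 (by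
      show π (x : J) * invol = invol * π (x : J)
      rw [← ha, ← map_mul, ← map_mul, mem_centralizer_singleton_iff.1 x.2])
  have hkerle : Nat.card ↥φ.ker ≤ 8 := by
    rw [← h8]
    refine Nat.card_le_card_of_injective (fun x => ⟨((x : ↥C) : J), (hker _).1 ?_⟩) ?_
    · exact congrArg Subtype.val (MonoidHom.mem_ker.1 x.2)
    · intro x y h
      exact Subtype.ext (Subtype.ext (congrArg Subtype.val h :))
  have hle : Nat.card ↥C ≤ 64 := by
    rw [← φ.ker.card_mul_index, Subgroup.index_ker]
    calc Nat.card ↥φ.ker * Nat.card ↥φ.range ≤ 8 * 8 :=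
          Nat.mul_le_mul hkerle (by rw [← card_cent_invol]; exact Subgroup.card_le_card_group _)
      _ = 64 := rfl
  have h16 : Nat.card ↥C = 16 := by
    rcases hC a haord with h | h
    · exfalso
      have h' : Nat.card ↥C = 192 := h
      omega
    · exact h
  -- the fixed points in the normal subgroup
  have hcomm : ∀ x ∈ E, ∀ y ∈ E, x * y = y * x := fun x hx y hy =>
    congrArg Subtype.val (hE.1.1.comm ⟨x, hx⟩ ⟨y, hy⟩)
  have hmem : ∀ x : ↥E, (x : J) * (a * x * a⁻¹) ∈ E := fun x =>
    mul_mem x.2 (Subgroup.Normal.conj_mem inferInstance _ x.2 a)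
  let ψ : ↥E →* ↥E :=
    { toFun := fun x => ⟨(x : J) * (a * x * a⁻¹), hmem x⟩
      map_one' := Subtype.ext (by simp)
      map_mul' := fun x y => Subtype.ext (by
        show ((x : J) * y) * (a * ((x : J) * y) * a⁻¹) = ((x : J) * (a * x * a⁻¹)) * ((y : J) * (a * y * a⁻¹))
        rw [show a * ((x : J) * y) * a⁻¹ = (a * x * a⁻¹) * (a * y * a⁻¹) by group,
          Commute.mul_mul_mul_comm
            (hcomm _ y.2 _ (Subgroup.Normal.conj_mem inferInstance _ x.2 a)) _ _]) }
  have hrk : ψ.range ≤ ψ.ker := by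
    rintro _ ⟨x, rfl⟩
    refine MonoidHom.mem_ker.2 (Subtype.ext ?_)
    show ((x : J) * (a * x * a⁻¹)) * (a * ((x : J) * (a * x * a⁻¹)) * a⁻¹) = 1
    have hcz := Subgroup.Normal.conj_mem (inferInstance : E.Normal) _ x.2 a
    rw [show a * ((x : J) * (a * x * a⁻¹)) * a⁻¹ = (a * x * a⁻¹) * ((a * a) * x * (a * a)⁻¹) by group,
      ha2]
    simp only [one_mul, inv_one, mul_one]
    have h2 : ∀ z ∈ E, z * z = 1 := fun z hz => by rw [← pow_two]; exact hE.2 z hz
    rw [mul_assoc, ← mul_assoc (a * x * a⁻¹), h2 _ hcz, one_mul, h2 _ x.2]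
  have hk4 : 3 ≤ Nat.card ↥ψ.ker := by
    have h := ψ.ker.card_mul_index
    rw [Subgroup.index_ker, h8] at h
    have := Subgroup.card_le_of_le hrk
    nlinarith
  -- it meets the complement trivially, so the centraliser is too large
  have hfix : ∀ x : ↥ψ.ker, ((x : ↥E) : J) * a = a * ((x : ↥E) : J) := by
    intro x
    have h : ((x : ↥E) : J) * (a * ((x : ↥E) : J) * a⁻¹) = 1 :=
      congrArg Subtype.val (MonoidHom.mem_ker.1 x.2)
    have hx2 : ((x : ↥E) : J) * ((x : ↥E) : J) = 1 := by rw [← pow_two]; exact hE.2 _ (x : ↥E).2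
    have h' := (inv_eq_of_mul_eq_one_right h).symm.trans (inv_eq_of_mul_eq_one_right hx2)
    rw [mul_inv_eq_iff_eq_mul] at h'
    exact h'.symm
  have hlift : ∀ y : ↥(centralizer ({invol} : Set (Matrix.SpecialLinearGroup (Fin 3) (ZMod 2)))),
      ∃ k : J, k ∈ K ∧ π k = y ∧ k ∈ C := by
    intro y
    obtain ⟨k, hk, hky⟩ := hsurjK y
    refine ⟨k, hk, hky, mem_centralizer_singleton_iff.2 ?_⟩
    refine hinjK _ (mul_mem hk haK) _ (mul_mem haK hk) ?_
    rw [map_mul, map_mul, hky, ha]
    exact mem_centralizer_singleton_iff.1 y.2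
  choose k hkK hkπ hkC using hlift
  let g : ↥ψ.ker × ↥(centralizer ({invol} : Set (Matrix.SpecialLinearGroup (Fin 3) (ZMod 2)))) → ↥C :=
    fun p => ⟨((p.1 : ↥E) : J) * k p.2,
      mul_mem (mem_centralizer_singleton_iff.2 (hfix p.1)) (hkC p.2)⟩
  have hg : Function.Injective g := by
    rintro ⟨x, y⟩ ⟨x', y'⟩ h
    have h' : ((x : ↥E) : J) * k y = ((x' : ↥E) : J) * k y' := congrArg Subtype.val h
    have hy : y = y' := Subtype.ext (by
      rw [← hkπ y, ← hkπ y']
      have := congrArg π h'
      rwa [map_mul, map_mul, (hker _).2 (x : ↥E).2, (hker _).2 (x' : ↥E).2, one_mul, one_mul] at this)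
    subst hy
    exact Prod.ext (Subtype.ext (Subtype.ext (mul_right_cancel h'))) rfl
  have := Nat.card_le_card_of_injective g hg
  rw [Nat.card_prod, card_cent_invol, h16] at this
  omega

/-- The sieve. -/
theorem structure_of_outcomes {J : Type*} [Group J] [Finite J]
    (hC : ∀ u : J, orderOf u = 2 → Nat.card ↥(Subgroup.centralizer ({u} : Set J)) = 192 ∨
      Nat.card ↥(Subgroup.centralizer ({u} : Set J)) = 16)
    (h : (∃ (N : Subgroup J) (hN : N.Normal), IsMulCommutative N ∧ (∀ n ∈ N, n ^ 2 = 1) ∧ Nat.card N = 8 ∧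
        Nonempty (J ⧸ N ≃* Matrix.ProjectiveSpecialLinearGroup (Fin 3) (ZMod 2))) ∨
      Nonempty (J ≃* alternatingGroup (Fin 8)) ∨ Nonempty (J ≃* alternatingGroup (Fin 9)) ∨
      Cfsg.Spor.IsoM12 J) :
    Nat.card J = 1344 ∧ ∃ (E : Subgroup J) (_ : E.Normal), Cfsg.IsElementaryAbelian 2 E ∧ Nat.card E = 8 ∧
      Nonempty (J ⧸ E ≃* Matrix.SpecialLinearGroup (Fin 3) (ZMod 2)) ∧
      ∀ K : Subgroup J, ¬ E.IsComplement' K := by
  rcases h with ⟨N, hN, hab, h2, h8, ⟨e⟩⟩ | ⟨⟨e⟩⟩ | ⟨⟨e⟩⟩ | h12
  · haveI := hN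
    let e' := e.trans pslEquiv
    refine ⟨?_, N, hN, ⟨hab, h2⟩, h8, ⟨e'⟩, no_complement hC N ⟨hab, h2⟩ h8 e'⟩
    rw [Subgroup.card_eq_card_quotient_mul_card_subgroup N, Nat.card_congr e'.toEquiv, card_sl, h8]
  · exact absurd (CentOrders.map hC e) not_cent_A8
  · exact absurd (CentOrders.map hC e) not_cent_A9
  · obtain ⟨e⟩ := h12
    exact absurd (CentOrders.map hC e) not_cent_M12

end CfsgLib.Spor.JankoFourFive
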