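import Mathlib
import Cfsg.Prelude.Def_Solvable
import Cfsg.Agent.Lib.Base.Cores

/-!
Generalities on the quotient of the centraliser of an element of order five by the group it
generates, and on groups of order six.
-/

set_option autoImplicit false
set_option linter.style.haveILetI false
set_option linter.unusedSectionVars false

namespace CfsgLib.Spor.JankoFourFive

/-- A non-commutative group of order six is the symmetric group of degree three. -/
theorem nonempty_perm_three_of_six {A : Type*} [Group A] [Finite A] (h6 : Nat.card A = 6)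
    {a b : A} (hab : a * b ≠ b * a) : Nonempty (A ≃* Equiv.Perm (Fin 3)) := by
  classical
  haveI : Fact (Nat.Prime 2) := ⟨Nat.prime_two⟩
  haveI : Fact (Nat.Prime 3) := ⟨Nat.prime_three⟩
  obtain ⟨t, ht⟩ := exists_prime_orderOf_dvd_card' (G := A) 2 (by rw [h6]; norm_num)
  set T := Subgroup.zpowers t with hT
  have hT2 : Nat.card T = 2 := by rw [hT, Nat.card_zpowers, ht]
  have hq3 : Nat.card (A ⧸ T) = 3 := by
    have h := Subgroup.card_eq_card_quotient_mul_card_subgroup T
    rw [h6, hT2] at h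
    omega
  let φ : A →* Equiv.Perm (A ⧸ T) := MulAction.toPermHom A (A ⧸ T)
  have hker : φ.ker = T.normalCore := (Subgroup.normalCore_eq_ker T).symm
  have hbot : T.normalCore = ⊥ := by
    haveI : IsCyclic T := isCyclic_of_prime_card hT2
    by_contra hne
    have heq : T.normalCore = T := by
      refine le_antisymm (Subgroup.normalCore_le T) ?_
      have h1 : Nat.card T.normalCore ∣ 2 := hT2 ▸ Subgroup.card_dvd_of_le (Subgroup.normalCore_le T)
      rcases (Nat.dvd_prime Nat.prime_two).1 h1 with h | h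
      · exact absurd (Subgroup.eq_bot_of_card_eq _ h) hne
      · exact (Subgroup.eq_of_le_of_card_ge (Subgroup.normalCore_le T) (by rw [h, hT2])).ge
    have hn : T.Normal := heq ▸ Subgroup.normalCore_normal T
    have htT : t ∈ T := Subgroup.mem_zpowers t
    have hcen : T ≤ Subgroup.center A := by
      intro x hx
      rw [Subgroup.mem_center_iff]
      intro g
      by_cases hx1 : x = 1
      · rw [hx1, one_mul, mul_one]
      have hgx : g * x * g⁻¹ ∈ T := hn.conj_mem x hx g
      have huniv : ∀ y ∈ T, y ≠ 1 → y = x := by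
        intro y hy hy1
        by_contra hyx
        have h3 : 3 ≤ Nat.card T := by
          have hinj : Function.Injective
              (fun i : Fin 3 => (![⟨1, T.one_mem⟩, ⟨x, hx⟩, ⟨y, hy⟩] : Fin 3 → T) i) := by
            intro i j e
            have e' := congrArg Subtype.val e
            fin_cases i <;> fin_cases j <;>
              simp_all [eq_comm]
          simpa using Nat.card_le_card_of_injective _ hinj
        omega
      have := huniv _ hgx (fun e => hx1 (by rwa [conj_eq_one_iff] at e))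
      exact mul_inv_eq_iff_eq_mul.1 this
    haveI : T.Normal := hn
    haveI : IsCyclic (A ⧸ T) := isCyclic_of_prime_card hq3
    exact hab (commutative_of_cyclic_center_quotient (QuotientGroup.mk' T)
      (by rw [QuotientGroup.ker_mk']; exact hcen) a b)
  have hinj : Function.Injective φ := (MonoidHom.ker_eq_bot_iff φ).1 (hker.trans hbot)
  let e3 : A ⧸ T ≃ Fin 3 := Nat.equivFinOfCardPos (α := A ⧸ T) (by rw [hq3]; norm_num) |>.trans
    (finCongr hq3)
  let ψ : A →* Equiv.Perm (Fin 3) := (e3.permCongrHom.toMonoidHom).comp φ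
  have hψ : Function.Injective ψ := e3.permCongrHom.injective.comp hinj
  exact ⟨MulEquiv.ofBijective ψ ((Nat.bijective_iff_injective_and_card ψ).2
    ⟨hψ, by rw [h6, Nat.card_perm, Nat.card_fin]; decide⟩)⟩

theorem center_perm_three : ∀ t : Equiv.Perm (Fin 3), (∀ g, g * t = t * g) → t = 1 := by decide

theorem two_normal_perm_three (N : Subgroup (Equiv.Perm (Fin 3))) [hN : N.Normal]
    (hp : IsPGroup 2 N) : N = ⊥ := by
  haveI : Fact (Nat.Prime 2) := ⟨Nat.prime_two⟩
  obtain ⟨n, hn⟩ := IsPGroup.iff_card.1 hp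
  have hd : Nat.card N ∣ 6 := by
    have := Subgroup.card_subgroup_dvd_card N
    rwa [Nat.card_perm, Nat.card_fin] at this
  rw [hn] at hd
  have hn1 : n ≤ 1 := by
    by_contra h
    have h4 : 2 ^ 2 ∣ 6 := (pow_dvd_pow 2 (by omega : 2 ≤ n)).trans hd
    norm_num at h4
  refine (Subgroup.eq_bot_iff_forall _).2 fun t ht => center_perm_three t fun g => ?_
  by_cases ht1 : t = 1
  · rw [ht1, one_mul, mul_one]
  have hgt : g * t * g⁻¹ ∈ N := hN.conj_mem t ht g
  have hne : g * t * g⁻¹ ≠ 1 := fun e => ht1 (by rwa [conj_eq_one_iff] at e)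
  have h2 : Nat.card N ≤ 2 := by rw [hn]; interval_cases n <;> norm_num
  by_contra hgc
  have hne2 : g * t * g⁻¹ ≠ t := fun e => hgc (mul_inv_eq_iff_eq_mul.1 e)
  have hinj : Function.Injective
      (fun i : Fin 3 => (![⟨1, N.one_mem⟩, ⟨t, ht⟩, ⟨g * t * g⁻¹, hgt⟩] : Fin 3 → N) i) := by
    intro i j e
    have e' := congrArg Subtype.val e
    fin_cases i <;> fin_cases j <;> simp_all [eq_comm]
  have := Nat.card_le_card_of_injective _ hinj
  simp only [Nat.card_fin] at this
  omega

/-- the core of a group with a normal 2-subgroup with symmetric quotient -/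
theorem pCore_eq_of_quotient {L : Type*} [Group L] [Finite L] (R : Subgroup L) [R.Normal]
    (hR : IsPGroup 2 R) (e : L ⧸ R ≃* Equiv.Perm (Fin 3)) : Cfsg.pCore 2 L = R := by
  refine le_antisymm ?_ (CfsgLib.Base.le_pCore hR)
  have hn : (Cfsg.pCore 2 L).Normal := inferInstance
  let f : L →* Equiv.Perm (Fin 3) := e.toMonoidHom.comp (QuotientGroup.mk' R)
  haveI : ((Cfsg.pCore 2 L).map f).Normal :=
    hn.map f (e.surjective.comp (QuotientGroup.mk'_surjective R))
  have h := two_normal_perm_three _ ((CfsgLib.Base.isPGroup_pCore 2 L).map f)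
  intro x hx
  have h1 : f x ∈ (Cfsg.pCore 2 L).map f := Subgroup.mem_map_of_mem _ hx
  rw [h, Subgroup.mem_bot] at h1
  exact (QuotientGroup.eq_one_iff x).1 (e.injective (h1.trans (map_one e).symm))

section Quot

variable {G : Type*} [Group G] [Finite G]

/-- the centraliser of an element -/
abbrev Cq (q : G) : Subgroup G := Subgroup.centralizer ({q} : Set G)

/-- the group generated by an element, inside its centraliser -/
abbrev Zq (q : G) : Subgroup ↥(Cq q) := (Subgroup.zpowers q).subgroupOf (Cq q)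

theorem zpowers_le_Cq (q : G) : Subgroup.zpowers q ≤ Cq q :=
  Subgroup.zpowers_le.2 (Subgroup.mem_centralizer_singleton_iff.2 rfl)

theorem comm_of_mem_zpowers {q w : G} (hw : w ∈ Subgroup.zpowers q) (g : ↥(Cq q)) :
    (g : G) * w = w * g := by
  obtain ⟨i, rfl⟩ := Subgroup.mem_zpowers_iff.1 hw
  exact (Commute.zpow_right (Subgroup.mem_centralizer_singleton_iff.1 g.2 : Commute (g : G) q) i).eq

instance zq_normal (q : G) : (Zq q).Normal :=
  ⟨fun w hw g => by
    rw [Subgroup.mem_subgroupOf] at hw ⊢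
    rw [Subgroup.coe_mul, Subgroup.coe_mul, Subgroup.coe_inv, comm_of_mem_zpowers hw g,
      mul_inv_cancel_right]
    exact hw⟩

theorem card_Zq (q : G) : Nat.card ↥(Zq q) = orderOf q := by
  rw [Nat.card_congr (Subgroup.subgroupOfEquivOfLe (zpowers_le_Cq q)).toEquiv, Nat.card_zpowers]

theorem card_subgroupOf_inf (A B : Subgroup G) :
    Nat.card ↥(A.subgroupOf B) = Nat.card ↥(A ⊓ B) :=
  Nat.card_congr
    { toFun := fun x => ⟨x.1.1, x.2, x.1.2⟩
      invFun := fun x => ⟨⟨x.1, x.2.2⟩, x.2.1⟩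
      left_inv := fun _ => rfl
      right_inv := fun _ => rfl }

theorem pow_five_of_mem {q w : G} (hq : orderOf q = 5) (hw : w ∈ Subgroup.zpowers q) :
    w ^ 5 = 1 := by
  obtain ⟨i, rfl⟩ := Subgroup.mem_zpowers_iff.1 hw
  rw [← zpow_natCast, ← zpow_mul, mul_comm, zpow_mul, zpow_natCast, ← hq, pow_orderOf_eq_one,
    one_zpow]

/-- an element of order prime to five commutes with another modulo `⟨q⟩` only if it commutes -/
theorem comm_of_mk_comm {q : G} (hq : orderOf q = 5) {n : ℕ} (hn : n.Coprime 5)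
    {u g : ↥(Cq q)} (hu : (u : G) ^ n = 1)
    (h : (g : ↥(Cq q) ⧸ Zq q) * u = (u : ↥(Cq q) ⧸ Zq q) * g) :
    (g : G) * u = (u : G) * g := by
  have hw : (g : G) * u * (g : G)⁻¹ * (u : G)⁻¹ ∈ Subgroup.zpowers q := by
    have h1 : ((g * u * g⁻¹ * u⁻¹ : ↥(Cq q)) : ↥(Cq q) ⧸ Zq q) = 1 := by
      rw [QuotientGroup.mk_mul, QuotientGroup.mk_mul, QuotientGroup.mk_mul, h, QuotientGroup.mk_inv,
        QuotientGroup.mk_inv, mul_inv_cancel_right, mul_inv_cancel]
    exact Subgroup.mem_subgroupOf.1 ((QuotientGroup.eq_one_iff _).1 h1)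
  set w := (g : G) * u * (g : G)⁻¹ * (u : G)⁻¹ with hwdef
  have hwu : Commute w (u : G) := (comm_of_mem_zpowers hw u).symm
  have e : (g : G) * u * (g : G)⁻¹ = w * u := by rw [hwdef, inv_mul_cancel_right]
  have hwn : w ^ n = 1 := by
    have h1 := hwu.mul_pow n
    rw [← e, conj_pow, hu, mul_one, mul_one, mul_inv_cancel] at h1
    exact h1.symm
  have hw1 : w = 1 := by
    rw [← orderOf_eq_one_iff]
    exact Nat.eq_one_of_dvd_coprimes hn (orderOf_dvd_of_pow_eq_one hwn)
      (orderOf_dvd_of_pow_eq_one (pow_five_of_mem hq hw))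
  rw [hw1, one_mul, mul_inv_eq_iff_eq_mul] at e
  exact e

theorem mem_Zq_eq_one {q : G} (hq : orderOf q = 5) {n : ℕ} (hn : n.Coprime 5) {g : ↥(Cq q)}
    (hg : (g : G) ^ n = 1) (h : g ∈ Zq q) : g = 1 := by
  refine Subtype.ext ((orderOf_eq_one_iff).1 ?_)
  exact Nat.eq_one_of_dvd_coprimes hn (orderOf_dvd_of_pow_eq_one hg)
    (orderOf_dvd_of_pow_eq_one (pow_five_of_mem hq (Subgroup.mem_subgroupOf.1 h)))

/-- the centraliser of the image of an involution -/
theorem centralizer_mk_eq {q : G} (hq : orderOf q = 5) {u : ↥(Cq q)} (hu : (u : G) ^ 2 = 1) :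
    Subgroup.centralizer ({(u : ↥(Cq q) ⧸ Zq q)} : Set (↥(Cq q) ⧸ Zq q)) =
      ((Subgroup.centralizer ({(u : G)} : Set G)).subgroupOf (Cq q)).map
        (QuotientGroup.mk' (Zq q)) := by
  ext j
  constructor
  · intro hj
    obtain ⟨g, rfl⟩ := QuotientGroup.mk'_surjective (Zq q) j
    refine ⟨g, ?_, rfl⟩
    exact Subgroup.mem_subgroupOf.2 (Subgroup.mem_centralizer_singleton_iff.2
      (comm_of_mk_comm hq (n := 2) (by norm_num) hu (Subgroup.mem_centralizer_singleton_iff.1 hj)))
  · rintro ⟨g, hg, rfl⟩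
    have hg' := Subgroup.mem_centralizer_singleton_iff.1 (Subgroup.mem_subgroupOf.1 hg)
    rw [Subgroup.mem_centralizer_singleton_iff]
    show (g : ↥(Cq q) ⧸ Zq q) * u = (u : ↥(Cq q) ⧸ Zq q) * g
    rw [← QuotientGroup.mk_mul, ← QuotientGroup.mk_mul]
    exact congrArg _ (Subtype.ext hg')

theorem card_centralizer_mk {q : G} (hq : orderOf q = 5) {u : ↥(Cq q)} (hu : (u : G) ^ 2 = 1) :
    Nat.card ↥(Subgroup.centralizer ({(u : ↥(Cq q) ⧸ Zq q)} : Set (↥(Cq q) ⧸ Zq q))) * 5 =
      Nat.card ↥(Subgroup.centralizer ({(u : G)} : Set G) ⊓ Cq q) := by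
  rw [centralizer_mk_eq hq hu, ← card_subgroupOf_inf]
  set K := (Subgroup.centralizer ({(u : G)} : Set G)).subgroupOf (Cq q)
  have hZK : Zq q ≤ K := fun w hw => Subgroup.mem_subgroupOf.2
    (Subgroup.mem_centralizer_singleton_iff.2 (comm_of_mem_zpowers (Subgroup.mem_subgroupOf.1 hw) u).symm)
  rw [← hq, ← card_Zq]
  have h : Nat.card ↥(K.map (QuotientGroup.mk' (Zq q))) *
      Nat.card ↥(K ⊓ (QuotientGroup.mk' (Zq q)).ker) = Nat.card ↥K := by
    rw [Subgroup.card_eq_card_quotient_mul_card_subgroup ((QuotientGroup.mk' (Zq q)).domRestrict K).ker,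
      Nat.card_congr (QuotientGroup.quotientKerEquivRange _).toEquiv, MonoidHom.domRestrict_range]
    congr 1
    exact Nat.card_congr
      { toFun := fun a => ⟨⟨a.1, a.2.1⟩, a.2.2⟩
        invFun := fun a => ⟨a.1.1, a.1.2, a.2⟩
        left_inv := fun _ => rfl
        right_inv := fun _ => rfl }
  rwa [QuotientGroup.ker_mk', inf_eq_right.2 hZK] at h

/-- an involution of the quotient comes from an involution -/
theorem exists_involution_lift {q : G} (hq : orderOf q = 5) {j : ↥(Cq q) ⧸ Zq q}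
    (hj : orderOf j = 2) : ∃ u : ↥(Cq q), orderOf (u : G) = 2 ∧ (u : ↥(Cq q) ⧸ Zq q) = j := by
  haveI : Fact (Nat.Prime 2) := ⟨Nat.prime_two⟩
  obtain ⟨g, rfl⟩ := QuotientGroup.mk'_surjective (Zq q) j
  have h2 : ((g ^ 2 : ↥(Cq q)) : ↥(Cq q) ⧸ Zq q) = 1 := by
    rw [QuotientGroup.mk_pow]
    exact hj ▸ pow_orderOf_eq_one _
  have hq2 := pow_five_of_mem hq (Subgroup.mem_subgroupOf.1 ((QuotientGroup.eq_one_iff _).1 h2))
  have he : ((g ^ 5 : ↥(Cq q)) : ↥(Cq q) ⧸ Zq q) = (g : ↥(Cq q) ⧸ Zq q) := by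
    rw [show 5 = 2 + 2 + 1 from rfl, pow_succ, pow_add, QuotientGroup.mk_mul,
      QuotientGroup.mk_mul, h2, one_mul, one_mul]
  refine ⟨g ^ 5, orderOf_eq_prime ?_ fun e => ?_, he⟩
  · rw [Subgroup.coe_pow] at hq2 ⊢
    rwa [← pow_mul, mul_comm, pow_mul]
  · have hg1 : (g : ↥(Cq q) ⧸ Zq q) = 1 := by
      rw [← he, show g ^ 5 = 1 from Subtype.ext e, QuotientGroup.mk_one]
    rw [show QuotientGroup.mk' (Zq q) g = 1 from hg1, orderOf_one] at hj
    norm_num at hj

end Quot

end CfsgLib.Spor.JankoFourFive
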