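import Cfsg.Agent.Lib.Spor.JankoFourFive.HLocal
import Cfsg.Agent.Lib.Spor.JankoFourFive.QuotFive
import Cfsg.Agent.Lib.Spor.JankoFourFive.Groups
import Cfsg.Agent.Lib.Spor.JankoFourCentral.CoreFusion
import Cfsg.Agent.Lib.Spor.JankoFourCentral.Local
import Cfsg.Prelude.Def_TwoFusion

/-!
The normaliser of a subgroup of order five centralising the central involution, in a group of
Janko-four type, given the classification of the groups with an involution centraliser
`2^(1+4) S3`.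
-/

set_option autoImplicit false
set_option maxRecDepth 100000
set_option maxHeartbeats 1000000
set_option linter.style.haveILetI false
set_option linter.unusedSectionVars false

universe u

namespace CfsgLib.Spor.JankoFourFive

open Cfsg CfsgLib.Spor.JankoFourCentral CfsgLib.Spor.LargeFi

/-- the classification of the groups with an involution centraliser `2^(1+4) S3` -/
def RecThirtyTwo : Prop :=
  ∀ (J : Type u) [Group J] [Finite J]
    (s : J) (_ : orderOf s = 2) (L : Subgroup J) (_ : L = Subgroup.centralizer ({s} : Set J))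
    (R : Subgroup J) (_ : R = (Cfsg.pCore 2 L).map L.subtype)
    (_ : Cfsg.IsExtraspecial 2 R) (_ : Nat.card R = 32)
    (_ : L ⧸ Cfsg.pCore 2 L ≃* Equiv.Perm (Fin 3))
    (X : Sylow 3 L) (_ : R ⊓ Subgroup.centralizer
      (((X : Subgroup L).map L.subtype : Subgroup J) : Set J) = Subgroup.zpowers s)
    (_ : ∃ g : J, g * s * g⁻¹ ∈ R ∧ g * s * g⁻¹ ≠ s),
    (∃ (N : Subgroup J) (hN : N.Normal), IsMulCommutative N ∧ (∀ n ∈ N, n ^ 2 = 1) ∧ Nat.card N = 8 ∧
        Nonempty (J ⧸ N ≃* Matrix.ProjectiveSpecialLinearGroup (Fin 3) (ZMod 2))) ∨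
    Nonempty (J ≃* alternatingGroup (Fin 8)) ∨ Nonempty (J ≃* alternatingGroup (Fin 9)) ∨
      Cfsg.Spor.IsoM12 J

variable {G : Type u} [Group G] [Finite G] {z : G}

/-- what the centraliser of `z` says about an element of order five in it -/
theorem five_in_H (hJ : Cfsg.IsOfJankoFourTypeAt z) {q : G} (hq : orderOf q = 5)
    (hqz : q * z = z * q) :
    Nat.card ↥(Subgroup.centralizer ({z} : Set G) ⊓ Cq q) = 960 ∧
    Nat.card ↥(twoCoreOfCentralizer z ⊓ Cq q) = 32 ∧
    Cfsg.IsExtraspecial 2 ↥(twoCoreOfCentralizer z ⊓ Cq q) ∧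
    (∃ x h : G, x * z = z * x ∧ h * z = z * h ∧ x * q = q * x ∧ h * q = q * h ∧ orderOf x = 3 ∧
      (∀ a ∈ twoCoreOfCentralizer z, a * x = x * a → a = 1 ∨ a = z) ∧
      h * x * h⁻¹ * x ∈ twoCoreOfCentralizer z) ∧
    (∀ b ∈ twoCoreOfCentralizer z, b ≠ 1 → b ≠ z → b * b = 1 → ∃ h : G,
      h * b * h⁻¹ ∈ twoCoreOfCentralizer z ∧ h * b * h⁻¹ ∈ Cq q ∧ h * b * h⁻¹ ≠ z) ∧
    (∃ f : G, f * z = z * f ∧ f * q * f⁻¹ = q ^ 2) ∧
    ¬ 5 ^ 2 ∣ Nat.card ↥(Subgroup.centralizer ({z} : Set G)) := by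
  obtain ⟨P, hP⟩ := hJ
  obtain ⟨Md⟩ := J4.model_of_type hP
  obtain ⟨-, -, -, -, ⟨N, hEN, hNH, -, hNcard, ⟨hNn, ⟨eN⟩⟩, -⟩, -⟩ := hP
  set H := Subgroup.centralizer ({z} : Set G) with hH
  haveI := hNn
  have hQN : J4.coreH z ≤ N.subgroupOf H := fun x hx =>
    Subgroup.mem_subgroupOf.2 (hEN ⟨x, hx, rfl⟩)
  have hN : Nat.card ↥(N.subgroupOf H) = 3 * Nat.card ↥(J4.coreH z) := by
    rw [Nat.card_congr (Subgroup.subgroupOfEquivOfLe hNH).toEquiv, hNcard]
    congr 1
    exact (Nat.card_congr ((J4.coreH z).equivMapOfInjective _ Subtype.val_injective).toEquiv).symm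
  have hqH : q ∈ H := Subgroup.mem_centralizer_singleton_iff.2 hqz
  have hq' : orderOf (⟨q, hqH⟩ : H) = 5 := by rw [Subgroup.orderOf_mk, hq]
  obtain ⟨h1, h2, h3, ⟨x, hx, h, hh, hxo, hfix, hinv⟩, horb, f, hf⟩ :=
    five_local Md (N.subgroupOf H) hQN hN eN hq'
  have hc : ∀ g : H, g ∈ Subgroup.centralizer ({(⟨q, hqH⟩ : H)} : Set H) ↔ (g : G) ∈ Cq q := by
    intro g
    rw [Subgroup.mem_centralizer_singleton_iff, Subgroup.mem_centralizer_singleton_iff]
    exact Subtype.ext_iff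
  have hcore : ∀ g : H, g ∈ J4.coreH z ↔ (g : G) ∈ twoCoreOfCentralizer z :=
    fun g => ⟨fun e => ⟨g, e, rfl⟩, fun ⟨g', hg', e⟩ => (Subtype.ext e : g' = g) ▸ hg'⟩
  have hcoreH : twoCoreOfCentralizer z ≤ H := by
    rintro _ ⟨g, -, rfl⟩
    exact g.2
  let eE : ↥(J4.coreH z ⊓ Subgroup.centralizer ({(⟨q, hqH⟩ : H)} : Set H)) ≃*
      ↥(twoCoreOfCentralizer z ⊓ Cq q) :=
    { toFun := fun a => ⟨(a.1 : G), (hcore _).1 a.2.1, (hc _).1 a.2.2⟩
      invFun := fun a => ⟨⟨a.1, hcoreH a.2.1⟩, (hcore _).2 a.2.1, (hc _).2 a.2.2⟩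
      left_inv := fun _ => rfl
      right_inv := fun _ => rfl
      map_mul' := fun _ _ => rfl }
  refine ⟨?_, ?_, CfsgLib.ThreeTransp.extraspecial_equiv eE h3, ?_, ?_, ?_, ?_⟩
  · rw [← h1]
    exact Nat.card_congr
      { toFun := fun a => ⟨⟨a.1, a.2.1⟩, (hc _).2 a.2.2⟩
        invFun := fun a => ⟨a.1.1, a.1.2, (hc _).1 a.2⟩
        left_inv := fun _ => rfl
        right_inv := fun _ => rfl }
  · rw [← h2]; exact (Nat.card_congr eE.toEquiv).symm
  · refine ⟨x, h, Subgroup.mem_centralizer_singleton_iff.1 x.2,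
      Subgroup.mem_centralizer_singleton_iff.1 h.2,
      Subgroup.mem_centralizer_singleton_iff.1 ((hc _).1 hx),
      Subgroup.mem_centralizer_singleton_iff.1 ((hc _).1 hh), by rw [Subgroup.orderOf_coe, hxo],
      fun a ha hax => ?_, (hcore _).1 hinv⟩
    rcases hfix ⟨a, hcoreH ha⟩ ((hcore _).2 ha) (Subtype.ext hax) with e | e
    · exact Or.inl (congrArg Subtype.val e)
    · exact Or.inr (congrArg Subtype.val e)
  · intro b hb hb1 hbz hb2
    obtain ⟨k, k1, k2, k3⟩ := horb ⟨b, hcoreH hb⟩ ((hcore _).2 hb)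
      (fun e => hb1 (congrArg Subtype.val e)) (fun e => hbz (congrArg Subtype.val e))
      (Subtype.ext hb2)
    exact ⟨k, (hcore _).1 k1, (hc _).1 k2, fun e => k3 (Subtype.ext e)⟩
  · exact ⟨f, Subgroup.mem_centralizer_singleton_iff.1 f.2, congrArg Subtype.val hf⟩
  · intro h25
    rw [Md.card_H] at h25
    norm_num at h25

theorem mem_normalizer_zpowers {G : Type*} [Group G] [Finite G] {g f : G} {n : ℕ}
    (hn : n.Coprime (orderOf g)) (h : f * g * f⁻¹ = g ^ n) :
    f ∈ Subgroup.normalizer ((Subgroup.zpowers g : Subgroup G) : Set G) := by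
  have hmap : (Subgroup.zpowers g).map (MulAut.conj f).toMonoidHom = Subgroup.zpowers g := by
    refine Subgroup.eq_of_le_of_card_ge ?_ ?_
    · rw [MonoidHom.map_zpowers, Subgroup.zpowers_le]
      show f * g * f⁻¹ ∈ _
      rw [h]; exact Subgroup.npow_mem_zpowers g n
    · rw [Subgroup.card_map_of_injective (MulAut.conj f).injective]
  refine Subgroup.mem_normalizer_iff.2 fun y => ?_
  refine ⟨fun hy => ?_, fun hy => ?_⟩
  · rw [← hmap]; exact ⟨y, hy, rfl⟩
  · rw [← hmap, Subgroup.mem_map_equiv, MulAut.conj_symm_apply] at hy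
    simpa [mul_assoc] using hy

theorem square_powers {G : Type*} [Group G] {f q : G} (hf : f * q * f⁻¹ = q ^ 2) :
    ∀ n : ℕ, f ^ n * q * (f ^ n)⁻¹ = q ^ (2 ^ n) := by
  intro n
  induction n with
  | zero => simp
  | succ n ih =>
    calc f ^ (n + 1) * q * (f ^ (n + 1))⁻¹ = f * (f ^ n * q * (f ^ n)⁻¹) * f⁻¹ := by
          rw [pow_succ']; group
      _ = (f * q * f⁻¹) ^ (2 ^ n) := by rw [ih, conj_pow]
      _ = q ^ (2 ^ (n + 1)) := by rw [hf, ← pow_mul, pow_succ']

theorem exists_two_pow {G : Type*} [Group G] {q y : G} (hq : orderOf q = 5)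
    (hy : y ∈ Subgroup.zpowers q) (hy1 : y ≠ 1) : ∃ n : Fin 4, y = q ^ (2 ^ (n : ℕ)) := by
  classical
  have hfin : IsOfFinOrder q := orderOf_pos_iff.1 (by rw [hq]; norm_num)
  obtain ⟨k, hk, rfl⟩ := Finset.mem_image.1
    (hfin.mem_zpowers_iff_mem_range_orderOf.1 hy)
  rw [Finset.mem_range, hq] at hk
  have key : ∀ k < 5, k = 0 ∨ ∃ n : Fin 4, 2 ^ (n : ℕ) % 5 = k := by decide
  rcases key k hk with rfl | ⟨n, hn⟩
  · exact absurd (pow_zero q) hy1
  · refine ⟨n, ?_⟩
    show q ^ k = _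
    rw [← hn, ← hq, pow_mod_orderOf]

variable {A : Type*} [AddCommGroup A] (D : Eleven z A)

include D in
/-- the quotient of the centraliser meets the hypotheses of the classification -/
theorem quotient_outcomes (hJ : Cfsg.IsOfJankoFourTypeAt z) (hrec : RecThirtyTwo.{u})
    {q : G} (hq : orderOf q = 5) (hqz : q * z = z * q) :
    Nat.card (↥(Cq q) ⧸ Zq q) = 1344 ∧
      ∃ (E : Subgroup (↥(Cq q) ⧸ Zq q)) (_ : E.Normal), Cfsg.IsElementaryAbelian 2 E ∧
      Nat.card E = 8 ∧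
      Nonempty ((↥(Cq q) ⧸ Zq q) ⧸ E ≃* Matrix.SpecialLinearGroup (Fin 3) (ZMod 2)) ∧
      ∀ K : Subgroup (↥(Cq q) ⧸ Zq q), ¬ E.IsComplement' K := by
  classical
  haveI : Fact (Nat.Prime 2) := ⟨Nat.prime_two⟩
  haveI : Fact (Nat.Prime 3) := ⟨Nat.prime_three⟩
  haveI : Fact (Nat.Prime 5) := ⟨by norm_num⟩
  obtain ⟨hL, hEc, hEx, ⟨x, h, hxz, hhz, hxq, hhq, hxo, hfix, hinv⟩, horb, ⟨f, hfz, hf⟩, h25⟩ :=
    five_in_H hJ hq hqz
  have hz : orderOf z = 2 := hJ.choose_spec.1
  have hz2 : z ^ 2 = 1 := by rw [← hz, pow_orderOf_eq_one]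
  have hz1 : z ≠ 1 := fun e => by rw [e, orderOf_one] at hz; norm_num at hz
  have hzE : z ∈ twoCoreOfCentralizer z := by
    obtain ⟨P, hP⟩ := hJ
    obtain ⟨Md⟩ := J4.model_of_type hP
    exact ⟨_, Md.xc.mem, rfl⟩
  have hcoreH : twoCoreOfCentralizer z ≤ Subgroup.centralizer ({z} : Set G) := by
    rintro _ ⟨g, -, rfl⟩
    exact g.2
  set zC : ↥(Cq q) := ⟨z, Subgroup.mem_centralizer_singleton_iff.2 hqz.symm⟩ with hzC
  set π := QuotientGroup.mk' (Zq q) with hπ
  set s : ↥(Cq q) ⧸ Zq q := π zC with hsdef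
  have hpk : ∀ {n : ℕ}, n.Coprime 5 → ∀ {g : ↥(Cq q)}, (g : G) ^ n = 1 → π g = 1 → g = 1 :=
    fun hn _ hg hgk => mem_Zq_eq_one hq hn hg ((QuotientGroup.eq_one_iff _).1 hgk)
  have hs : orderOf s = 2 := orderOf_eq_prime
    (by rw [hsdef, ← map_pow, show zC ^ 2 = 1 from Subtype.ext hz2, map_one])
    fun e => hz1 (congrArg Subtype.val (hpk (n := 2) (by norm_num) (g := zC) hz2 e))
  set L := Subgroup.centralizer ({s} : Set (↥(Cq q) ⧸ Zq q)) with hLdef
  have hLmap : L = ((Subgroup.centralizer ({z} : Set G)).subgroupOf (Cq q)).map π :=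
    centralizer_mk_eq hq (u := zC) hz2
  have hLcard : Nat.card L = 192 := by
    have e := card_centralizer_mk hq (u := zC) hz2
    change Nat.card L * 5 = Nat.card ↥(Subgroup.centralizer ({z} : Set G) ⊓ Cq q) at e
    omega
  -- the extraspecial subgroup
  set E0 := (twoCoreOfCentralizer z).subgroupOf (Cq q) with hE0
  set R := E0.map π with hR
  have hEpow : ∀ g ∈ E0, (g : G) ^ 32 = 1 := by
    intro g hg
    have h1 : (⟨(g : G), hg, g.2⟩ : ↥(twoCoreOfCentralizer z ⊓ Cq q)) ^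
        Nat.card ↥(twoCoreOfCentralizer z ⊓ Cq q) = 1 := pow_card_eq_one'
    rw [hEc] at h1
    simpa using congrArg Subtype.val h1
  let eE0 : ↥(twoCoreOfCentralizer z ⊓ Cq q) ≃* ↥E0 :=
    { toFun := fun a => ⟨⟨a.1, a.2.2⟩, a.2.1⟩
      invFun := fun a => ⟨a.1.1, a.2, a.1.2⟩
      left_inv := fun _ => rfl
      right_inv := fun _ => rfl
      map_mul' := fun _ _ => rfl }
  have hinjE : Function.Injective (π.domRestrict E0) := by
    refine (MonoidHom.ker_eq_bot_iff _).1 ((Subgroup.eq_bot_iff_forall _).2 fun a ha => ?_)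
    exact Subtype.ext (hpk (n := 32) (by norm_num) (hEpow a a.2) ha)
  let eR : ↥(twoCoreOfCentralizer z ⊓ Cq q) ≃* ↥R :=
    eE0.trans ((MonoidHom.ofInjective hinjE).trans
      (MulEquiv.subgroupCongr (MonoidHom.domRestrict_range E0 π)))
  have hRex : Cfsg.IsExtraspecial 2 R := CfsgLib.ThreeTransp.extraspecial_equiv eR hEx
  have hRcard : Nat.card R = 32 := by rw [← Nat.card_congr eR.toEquiv, hEc]
  have hRL : R ≤ L := by
    rw [hLmap]
    exact Subgroup.map_mono fun g hg => hcoreH hg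
  haveI hRn : (R.subgroupOf L).Normal := by
    refine ⟨fun r hr g => ?_⟩
    rw [Subgroup.mem_subgroupOf] at hr ⊢
    have hg : (g : ↥(Cq q) ⧸ Zq q) ∈ ((Subgroup.centralizer ({z} : Set G)).subgroupOf (Cq q)).map π :=
      hLmap ▸ g.2
    obtain ⟨gc, hgc, hge⟩ := hg
    obtain ⟨rc, hrc, hre⟩ := hr
    refine ⟨gc * rc * gc⁻¹, ?_, ?_⟩
    · have hcz : (gc : G) * z = z * gc := Subgroup.mem_centralizer_singleton_iff.1 hgc
      exact Eleven.conj_twoCore hcz hrc
    · rw [map_mul, map_mul, map_inv, hge, hre]; rfl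
  have hRp : IsPGroup 2 (R.subgroupOf L) := IsPGroup.of_card (n := 5) (by
    rw [Nat.card_congr (Subgroup.subgroupOfEquivOfLe hRL).toEquiv, hRcard]; norm_num)
  have h6 : Nat.card (L ⧸ R.subgroupOf L) = 6 := by
    have e := Subgroup.card_eq_card_quotient_mul_card_subgroup (R.subgroupOf L)
    rw [Nat.card_congr (Subgroup.subgroupOfEquivOfLe hRL).toEquiv, hRcard, hLcard] at e
    omega
  set xC : ↥(Cq q) := ⟨x, Subgroup.mem_centralizer_singleton_iff.2 hxq⟩ with hxC
  set hC : ↥(Cq q) := ⟨h, Subgroup.mem_centralizer_singleton_iff.2 hhq⟩ with hhC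
  have hxL : π xC ∈ L := hLmap ▸ ⟨xC, Subgroup.mem_centralizer_singleton_iff.2 hxz, rfl⟩
  have hhL : π hC ∈ L := hLmap ▸ ⟨hC, Subgroup.mem_centralizer_singleton_iff.2 hhz, rfl⟩
  have hx3 : x ^ 3 = 1 := by rw [← hxo, pow_orderOf_eq_one]
  have hxone : π xC ≠ 1 := fun e => by
    have e1 : x = 1 := congrArg Subtype.val (hpk (n := 3) (by norm_num) (g := xC) hx3 e)
    rw [e1, orderOf_one] at hxo
    norm_num at hxo
  have hxord : orderOf (π xC) = 3 := orderOf_eq_prime
    (by rw [← map_pow, show xC ^ 3 = 1 from Subtype.ext hx3, map_one]) hxone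
  have hxR : π xC ∉ R := fun e => by
    have h1 : orderOf (π xC) ∣ Nat.card R := Subgroup.orderOf_dvd_natCard R e
    rw [hxord, hRcard] at h1
    norm_num at h1
  have hne : ((⟨π hC, hhL⟩ : L) : L ⧸ R.subgroupOf L) * ((⟨π xC, hxL⟩ : L) : L ⧸ R.subgroupOf L) ≠
      ((⟨π xC, hxL⟩ : L) : L ⧸ R.subgroupOf L) * ((⟨π hC, hhL⟩ : L) : L ⧸ R.subgroupOf L) := by
    intro e
    apply hxR
    have hi : π (hC * xC * hC⁻¹ * xC) ∈ R := ⟨_, hinv, rfl⟩
    have h1 : (((⟨π hC, hhL⟩ : L) * ⟨π xC, hxL⟩ * (⟨π hC, hhL⟩ : L)⁻¹ * ⟨π xC, hxL⟩ : L) :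
        L ⧸ R.subgroupOf L) = 1 := (QuotientGroup.eq_one_iff _).2 (by
      rw [Subgroup.mem_subgroupOf]
      simpa [map_mul, map_inv] using hi)
    rw [QuotientGroup.mk_mul, QuotientGroup.mk_mul, QuotientGroup.mk_mul, e, QuotientGroup.mk_inv,
      mul_inv_cancel_right, ← QuotientGroup.mk_mul, QuotientGroup.eq_one_iff,
      Subgroup.mem_subgroupOf] at h1
    have h2 := R.mul_mem h1 h1
    have e3 : π xC * π xC * (π xC * π xC) = π xC := by
      rw [show π xC * π xC = π xC ^ 2 from (pow_two _).symm, ← pow_add, show 2 + 2 = orderOf (π xC) + 1 by rw [hxord], pow_succ,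
        pow_orderOf_eq_one, one_mul]
    simpa [e3] using h2
  obtain ⟨e6⟩ := nonempty_perm_three_of_six h6 hne
  have hcoreL : Cfsg.pCore 2 L = R.subgroupOf L := pCore_eq_of_quotient _ hRp e6
  have hRcore : R = (Cfsg.pCore 2 L).map L.subtype := by
    rw [hcoreL, Subgroup.map_subgroupOf_eq_of_le hRL]
  let eL : L ⧸ Cfsg.pCore 2 L ≃* Equiv.Perm (Fin 3) :=
    (QuotientGroup.quotientMulEquivOfEq hcoreL).trans e6
  -- the Sylow 3-subgroup
  have hfact : (Nat.card L).factorization 3 = 1 := by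
    rw [hLcard]
    apply le_antisymm
    · by_contra hlt
      have := (Nat.Prime.pow_dvd_iff_le_factorization Nat.prime_three (show (192 : ℕ) ≠ 0 by norm_num)).2
        (show 2 ≤ (192 : ℕ).factorization 3 by omega)
      norm_num at this
    · exact (Nat.Prime.pow_dvd_iff_le_factorization Nat.prime_three (by norm_num)).1 (by norm_num)
  let X : Sylow 3 L := Sylow.ofCard (Subgroup.zpowers (⟨π xC, hxL⟩ : L)) (by
    rw [hfact, Nat.card_zpowers, Subgroup.orderOf_mk, hxord, pow_one])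
  have hXmap : (X : Subgroup L).map L.subtype = Subgroup.zpowers (π xC) := by
    rw [Sylow.coe_ofCard, MonoidHom.map_zpowers]; rfl
  have hfixR : R ⊓ Subgroup.centralizer
      (((X : Subgroup L).map L.subtype : Subgroup _) : Set (↥(Cq q) ⧸ Zq q)) = Subgroup.zpowers s := by
    refine le_antisymm ?_ (Subgroup.zpowers_le.2 ⟨⟨zC, hzE, rfl⟩, ?_⟩)
    · rintro _ ⟨⟨a, ha, rfl⟩, hac⟩
      have hcm := Subgroup.mem_centralizer_iff.1 hac (π xC) (hXmap ▸ Subgroup.mem_zpowers _)
      have hax := comm_of_mk_comm hq (n := 3) (by norm_num) (g := a) (u := xC) hx3 hcm.symm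
      rcases hfix a ha hax with e | e
      · rw [show a = 1 from Subtype.ext e, map_one]; exact one_mem _
      · rw [show a = zC from Subtype.ext e]; exact Subgroup.mem_zpowers _
    · show s ∈ Subgroup.centralizer _
      rw [hXmap, Subgroup.mem_centralizer_iff]
      intro y hy
      obtain ⟨i, rfl⟩ := Subgroup.mem_zpowers_iff.1 hy
      refine (Commute.zpow_left (show Commute (π xC) s from ?_) i).eq
      show π xC * π zC = π zC * π xC
      rw [← map_mul, ← map_mul]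
      exact congrArg π (Subtype.ext hxz)
  -- not weakly closed
  have hnwc : ∃ g : ↥(Cq q) ⧸ Zq q, g * s * g⁻¹ ∈ R ∧ g * s * g⁻¹ ≠ s := by
    obtain ⟨b, hb, hbz, hzb⟩ := exists_other_conj D hJ
    obtain ⟨k, hk⟩ := isConj_iff.1 hzb
    have hb2 : b * b = 1 := by
      rw [← hk, ← pow_two, conj_pow, hz2]; group
    have hb1 : b ≠ 1 := fun e => hz1 (by rw [e, conj_eq_one_iff] at hk; exact hk)
    obtain ⟨l, hlE, hlC, hlz⟩ := horb b hb hb1 hbz hb2
    set a := l * b * l⁻¹ with ha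
    set g := l * k with hg
    have hga : g * z * g⁻¹ = a := by rw [hg, ha, ← hk]; group
    have hqa : q * a = a * q := (Subgroup.mem_centralizer_singleton_iff.1 hlC).symm
    have hrH : g⁻¹ * q * g ∈ Subgroup.centralizer ({z} : Set G) := by
      rw [Subgroup.mem_centralizer_singleton_iff]
      calc g⁻¹ * q * g * z = g⁻¹ * (q * (g * z * g⁻¹)) * g := by group
        _ = g⁻¹ * ((g * z * g⁻¹) * q) * g := by rw [hga, hqa]
        _ = z * (g⁻¹ * q * g) := by group
    obtain ⟨c, hc, q', hq', hq'1, hcq⟩ := exists_conj_of_card_prime h25 hrH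
      (Subgroup.mem_centralizer_singleton_iff.2 hqz)
      (by rw [show g⁻¹ * q * g = MulAut.conj g⁻¹ q by simp, MulEquiv.orderOf_eq, hq]) hq
    obtain ⟨n, rfl⟩ := exists_two_pow hq hq' hq'1
    have hcz : c * z = z * c := Subgroup.mem_centralizer_singleton_iff.1 hc
    set g2 := g * c⁻¹ * f ^ (n : ℕ) with hg2
    have hg2q : g2 * q * g2⁻¹ = q := by
      calc g2 * q * g2⁻¹ = g * c⁻¹ * (f ^ (n : ℕ) * q * (f ^ (n : ℕ))⁻¹) * c * g⁻¹ := by
            rw [hg2]; group
        _ = g * c⁻¹ * (c * (g⁻¹ * q * g) * c⁻¹) * c * g⁻¹ := by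
            rw [square_powers hf, hcq]
        _ = q := by group
    have hg2z : g2 * z * g2⁻¹ = a := by
      have e1 : f ^ (n : ℕ) * z * (f ^ (n : ℕ))⁻¹ = z :=
        mul_inv_eq_iff_eq_mul.2 ((show Commute f z from hfz).pow_left _).eq
      have e2 : c⁻¹ * z * c = z := by
        rw [mul_assoc, inv_mul_eq_iff_eq_mul, hcz]
      calc g2 * z * g2⁻¹ = g * c⁻¹ * (f ^ (n : ℕ) * z * (f ^ (n : ℕ))⁻¹) * c * g⁻¹ := by
            rw [hg2]; group
        _ = g * (c⁻¹ * z * c) * g⁻¹ := by rw [e1]; group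
        _ = a := by rw [e2, hga]
    let gC : ↥(Cq q) := ⟨g2, Subgroup.mem_centralizer_singleton_iff.2 (mul_inv_eq_iff_eq_mul.1 hg2q)⟩
    let aC : ↥(Cq q) := ⟨a, hlC⟩
    have ega : π gC * s * (π gC)⁻¹ = π aC := by
      rw [hsdef, ← map_inv, ← map_mul, ← map_mul]
      exact congrArg π (Subtype.ext hg2z)
    refine ⟨π gC, by rw [ega]; exact ⟨aC, hlE, rfl⟩, fun e => hlz ?_⟩
    rw [ega, hsdef] at e
    have e2 : π (zC⁻¹ * aC) = 1 := by rw [map_mul, map_inv, e, inv_mul_cancel]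
    have hin : zC⁻¹ * aC ∈ E0 := E0.mul_mem (E0.inv_mem hzE) hlE
    have e3 := congrArg Subtype.val (hpk (n := 32) (by norm_num) (hEpow _ hin) e2)
    exact (inv_mul_eq_one.1 e3).symm
  have hout := hrec (↥(Cq q) ⧸ Zq q) s hs L rfl R hRcore hRex hRcard eL X hfixR hnwc
  refine structure_of_outcomes (fun j hj => ?_) hout
  obtain ⟨w, hw, rfl⟩ := exists_involution_lift hq hj
  have e := card_centralizer_mk hq (u := w) (by rw [← hw, pow_orderOf_eq_one])
  have hwq : (w : G) * q = q * w := Subgroup.mem_centralizer_singleton_iff.1 w.2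
  by_cases hconj : IsConj z (w : G)
  · left
    obtain ⟨k, hk⟩ := isConj_iff.1 hconj
    have hq'o : orderOf (k⁻¹ * q * k) = 5 := by
      rw [show k⁻¹ * q * k = MulAut.conj k⁻¹ q by simp, MulEquiv.orderOf_eq, hq]
    have hq'z : k⁻¹ * q * k * z = z * (k⁻¹ * q * k) := by
      calc k⁻¹ * q * k * z = k⁻¹ * (q * (k * z * k⁻¹)) * k := by group
        _ = k⁻¹ * ((k * z * k⁻¹) * q) * k := by rw [hk, hwq]
        _ = z * (k⁻¹ * q * k) := by group
    have h960 := (five_in_H hJ hq'o hq'z).1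
    rw [← card_cent_conj k z (k⁻¹ * q * k), hk,
      show k * (k⁻¹ * q * k) * k⁻¹ = q by group] at h960
    rw [h960] at e
    omega
  · right
    have h80 := card_cent_five D hJ (D.core_fusion hJ) (D.cent_le hJ) w q hw hconj hq hwq.symm
    rw [h80] at e
    omega

include D in
/-- The local structure at a subgroup of order five centralising the central involution. -/
theorem local_five (hJ : Cfsg.IsOfJankoFourTypeAt z) (hrec : RecThirtyTwo.{u}) (Q : Subgroup G)
    (hQ : Nat.card ↥Q = 5) (hQz : Q ≤ Subgroup.centralizer ({z} : Set G)) :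
    ¬ (25 ∣ Nat.card G) ∧
    (∃ J : Subgroup G, Cfsg.IsInternalDirectProduct Q J (Subgroup.centralizer (Q : Set G)) ∧
      ∃ (E : Subgroup ↥J) (_ : E.Normal), Cfsg.IsElementaryAbelian 2 E ∧ Nat.card ↥E = 8 ∧
        Nonempty (↥J ⧸ E ≃* Matrix.SpecialLinearGroup (Fin 3) (ZMod 2)) ∧
        ∀ K : Subgroup ↥J, ¬ E.IsComplement' K) ∧
    (∃ R : Subgroup G, Q ≤ R ∧ R ≤ Subgroup.normalizer (Q : Set G) ∧ Nat.card ↥R = 20 ∧
      R ⊓ Subgroup.centralizer (Q : Set G) = Q) ∧
    Nat.card ↥(Subgroup.normalizer (Q : Set G)) = 2 ^ 8 * 3 * 5 * 7 := by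
  classical
  haveI : Fact (Nat.Prime 5) := ⟨by norm_num⟩
  haveI : IsCyclic Q := isCyclic_of_prime_card hQ
  obtain ⟨q, hqgen⟩ := IsCyclic.exists_generator (α := Q)
  have hq : orderOf (q : G) = 5 := by
    rw [Subgroup.orderOf_coe, orderOf_eq_card_of_forall_mem_zpowers hqgen, hQ]
  have hQq : Q = Subgroup.zpowers (q : G) :=
    (Subgroup.eq_of_le_of_card_ge (Subgroup.zpowers_le.2 q.2)
      (by rw [hQ, Nat.card_zpowers, hq])).symm
  have hqz : (q : G) * z = z * q := Subgroup.mem_centralizer_singleton_iff.1 (hQz q.2)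
  generalize (q : G) = r at hq hQq hqz
  subst hQq
  obtain ⟨hJ1344, E, hEn, hEel, hE8, ⟨eSL⟩, hEns⟩ := quotient_outcomes D hJ hrec hq hqz
  obtain ⟨-, -, -, -, -, ⟨f, -, hf⟩, -⟩ := five_in_H hJ hq hqz
  have hCQ : Subgroup.centralizer ((Subgroup.zpowers r : Subgroup G) : Set G) = Cq r := by
    refine le_antisymm (Subgroup.centralizer_le (by simp)) fun g hg => ?_
    exact Subgroup.mem_centralizer_iff.2 fun w hw => (comm_of_mem_zpowers hw ⟨g, hg⟩).symm
  rw [hCQ]
  have hZcard : Nat.card ↥(Zq r) = 5 := by rw [card_Zq, hq]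
  have hCcard : Nat.card ↥(Cq r) = 6720 := by
    rw [Subgroup.card_eq_card_quotient_mul_card_subgroup (Zq r), hJ1344, hZcard]
  -- Sylow
  have hsyl : ¬ 5 ^ 2 ∣ Nat.card G := by
    intro h
    obtain ⟨P, hP, hQP⟩ := Sylow.exists_subgroup_card_pow_succ (p := 5) (n := 1) h
      (H := Subgroup.zpowers r) (by rw [Nat.card_zpowers, hq, pow_one])
    have hle : P ≤ Cq r := fun g hg => Subgroup.mem_centralizer_singleton_iff.2
      (congrArg Subtype.val (IsPGroup.commutative_of_card_eq_prime_sq hP ⟨g, hg⟩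
        ⟨r, hQP (Subgroup.mem_zpowers r)⟩))
    have h2 := Subgroup.card_dvd_of_le hle
    rw [hP, hCcard] at h2
    norm_num at h2
  refine ⟨by simpa using hsyl, ?_, ?_, ?_⟩
  · -- the complement
    obtain ⟨K, hK⟩ := Subgroup.exists_right_complement'_of_coprime (N := Zq r) (by
      rw [Subgroup.index_eq_card, hJ1344, hZcard]; norm_num)
    let e : (↥(Cq r) ⧸ Zq r) ≃* ↥(K.map (Cq r).subtype) :=
      (hK.symm.QuotientMulEquiv).trans
        (K.equivMapOfInjective _ Subtype.val_injective)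
    refine ⟨K.map (Cq r).subtype, ⟨zpowers_le_Cq r, Subgroup.map_subtype_le K, ?_, ?_, ?_⟩, ?_⟩
    · intro a ha b hb
      obtain ⟨b', -, rfl⟩ := hb
      exact (comm_of_mem_zpowers ha b').symm
    · refine (Subgroup.eq_bot_iff_forall _).2 fun a ha => ?_
      obtain ⟨b, hb, rfl⟩ := ha.2
      have hdis : b ∈ Zq r ⊓ K := ⟨ha.1, hb⟩
      rw [disjoint_iff.1 hK.disjoint, Subgroup.mem_bot] at hdis
      rw [hdis]; rfl
    · have h1 : (Zq r ⊔ K).map (Cq r).subtype = (⊤ : Subgroup ↥(Cq r)).map (Cq r).subtype :=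
        congrArg _ hK.sup_eq_top
      rwa [Subgroup.map_sup, Subgroup.map_subgroupOf_eq_of_le (zpowers_le_Cq r),
        ← MonoidHom.range_eq_map, Subgroup.range_subtype] at h1
    · haveI hEn' : (E.map e.toMonoidHom).Normal := hEn.map _ e.surjective
      refine ⟨E.map e.toMonoidHom, hEn', ⟨?_, ?_⟩, ?_, ⟨?_⟩, ?_⟩
      · exact ⟨⟨fun a b => by
          obtain ⟨a', ha', ea⟩ := a.2
          obtain ⟨b', hb', eb⟩ := b.2
          refine Subtype.ext ?_
          show (a : ↥(K.map (Cq r).subtype)) * b = b * a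
          rw [← ea, ← eb, ← map_mul, ← map_mul]
          exact congrArg e (congrArg Subtype.val (hEel.1.is_comm.comm ⟨a', ha'⟩ ⟨b', hb'⟩))⟩⟩
      · rintro _ ⟨a, ha, rfl⟩
        rw [← map_pow, hEel.2 a ha, map_one]
      · rw [Subgroup.card_map_of_injective e.injective, hE8]
      · exact (QuotientGroup.congr E (E.map e.toMonoidHom) e rfl).symm.trans eSL
      · intro K' hK'
        refine hEns (K'.comap e.toMonoidHom) (Subgroup.isComplement'_of_card_mul_and_disjoint ?_ ?_)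
        · have hc := hK'.card_mul_card
          rw [Subgroup.card_map_of_injective e.injective, ← Nat.card_congr e.toEquiv] at hc
          rw [← hc, ← Subgroup.card_map_of_injective (K := K'.comap e.toMonoidHom) e.injective
            (f := e.toMonoidHom), Subgroup.map_comap_eq_self_of_surjective e.surjective]
        · rw [disjoint_iff, Subgroup.eq_bot_iff_forall]
          intro a ha
          have h2 : e a ∈ E.map e.toMonoidHom ⊓ K' := ⟨Subgroup.mem_map_of_mem _ ha.1, ha.2⟩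
          rw [disjoint_iff.1 hK'.disjoint, Subgroup.mem_bot] at h2
          exact e.injective (h2.trans (map_one e).symm)
  · -- the Frobenius group
    obtain ⟨q0, f0, hq0, hf0, hqf0⟩ := exists_frobenius D
    obtain ⟨c, -, q', hq', hq'1, hc⟩ := exists_conj_of_card_prime (H := ⊤) (p := 5)
      (by rw [Subgroup.card_top]; exact hsyl) (Subgroup.mem_top q0) (Subgroup.mem_top r) hq0 hq
    set f1 := c * f0 * c⁻¹ with hf1
    have hf1o : orderOf f1 = 4 := by rw [hf1, ← MulAut.conj_apply, MulEquiv.orderOf_eq, hf0]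
    have hf1q' : f1 * q' * f1⁻¹ = q' ^ 2 := by
      rw [← hc, hf1, conj_pow, ← hqf0]; group
    obtain ⟨n, hn⟩ := exists_two_pow hq hq' hq'1
    have hrq' : r ∈ Subgroup.zpowers q' := by
      rw [Subgroup.eq_of_le_of_card_ge (Subgroup.zpowers_le.2 hq') (by
        rw [Nat.card_zpowers, Nat.card_zpowers, hq, ← hc, ← MulAut.conj_apply, MulEquiv.orderOf_eq,
          hq0])]
      exact Subgroup.mem_zpowers r
    have hf1r : f1 * r * f1⁻¹ = r ^ 2 := by
      obtain ⟨i, rfl⟩ := Subgroup.mem_zpowers_iff.1 hrq'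
      rw [← conj_zpow, hf1q', ← zpow_natCast, ← zpow_natCast, ← zpow_mul, ← zpow_mul, mul_comm]
    have hpow := square_powers hf1r
    have hnorm : f1 ∈ Subgroup.normalizer ((Subgroup.zpowers r : Subgroup G) : Set G) := by
      refine CfsgLib.Spor.JankoFourFive.mem_normalizer_zpowers (n := 2) ?_ hf1r
      rw [hq]; norm_num
    set R := Subgroup.zpowers r ⊔ Subgroup.zpowers f1 with hR
    have hRmem : ∀ g ∈ R, ∃ a ∈ Subgroup.zpowers r, ∃ b ∈ Subgroup.zpowers f1, a * b = g := by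
      intro g hg
      have hg' : g ∈ (↑(Subgroup.zpowers r ⊔ Subgroup.zpowers f1) : Set G) := hg
      rw [Subgroup.coe_mul_of_right_le_normalizer_left _ _ (Subgroup.zpowers_le.2 hnorm)] at hg'
      exact Set.mem_mul.1 hg'
    have hcentf : ∀ b ∈ Subgroup.zpowers f1, b ∈ Cq r → b = 1 := by
      intro b hb hbc
      have hfin : IsOfFinOrder f1 := orderOf_pos_iff.1 (by rw [hf1o]; norm_num)
      obtain ⟨k, hk, rfl⟩ := Finset.mem_image.1 (hfin.mem_zpowers_iff_mem_range_orderOf.1 hb)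
      rw [Finset.mem_range, hf1o] at hk
      have e := hpow k
      rw [Subgroup.mem_centralizer_singleton_iff.1 hbc, mul_inv_cancel_right,
        ← pow_mod_orderOf, hq] at e
      have hinj : r ^ 1 = r ^ (2 ^ k % 5) := by rw [pow_one]; exact e
      have := pow_injOn_Iio_orderOf (x := r) (show 1 ∈ Set.Iio (orderOf r) by rw [hq]; simp)
        (show 2 ^ k % 5 ∈ Set.Iio (orderOf r) by rw [hq]; exact Nat.mod_lt _ (by norm_num)) hinj
      have key : ∀ k < 4, 1 = 2 ^ k % 5 → k = 0 := by decide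
      show f1 ^ k = 1
      rw [key k hk this, pow_zero]
    have hdisj : Disjoint (Subgroup.zpowers r) (Subgroup.zpowers f1) := by
      rw [disjoint_iff, Subgroup.eq_bot_iff_forall]
      intro b hb
      exact hcentf b hb.2 (zpowers_le_Cq r hb.1)
    refine ⟨R, le_sup_left, sup_le Subgroup.le_normalizer (Subgroup.zpowers_le.2 hnorm), ?_, ?_⟩
    · have e1 : Nat.card (Subgroup.zpowers r × Subgroup.zpowers f1) = 20 := by
        rw [Nat.card_prod, Nat.card_zpowers, Nat.card_zpowers, hq, hf1o]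
      rw [← e1]
      refine (Nat.card_eq_of_bijective (fun p : Subgroup.zpowers r × Subgroup.zpowers f1 =>
        (⟨(p.1 : G) * p.2, mul_mem (Subgroup.mem_sup_left p.1.2) (Subgroup.mem_sup_right p.2.2)⟩ : R))
        ⟨fun a b e => Subgroup.mul_injective_of_disjoint hdisj (congrArg Subtype.val e), ?_⟩).symm
      rintro ⟨g, hg⟩
      obtain ⟨a, ha, b, hb, rfl⟩ := hRmem g hg
      exact ⟨(⟨a, ha⟩, ⟨b, hb⟩), rfl⟩
    · refine le_antisymm ?_ (le_inf le_sup_left (zpowers_le_Cq r))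
      rintro g ⟨hgR, hgC⟩
      obtain ⟨a, ha, b, hb, rfl⟩ := hRmem g hgR
      have hbC : b ∈ Cq r := by
        have := mul_mem (inv_mem (zpowers_le_Cq r ha)) hgC
        rwa [inv_mul_cancel_left] at this
      rw [hcentf b hb hbC, mul_one]
      exact ha
  · -- the normaliser
    have hpow := square_powers hf
    have hnf : f ∈ Subgroup.normalizer ((Subgroup.zpowers r : Subgroup G) : Set G) := by
      refine mem_normalizer_zpowers (n := 2) ?_ hf
      rw [hq]; norm_num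
    have hCN : Cq r ≤ Subgroup.normalizer ((Subgroup.zpowers r : Subgroup G) : Set G) := fun g hg =>
      mem_normalizer_zpowers (n := 1) (Nat.coprime_one_left _)
        (by rw [pow_one, mul_inv_eq_iff_eq_mul]; exact Subgroup.mem_centralizer_singleton_iff.1 hg)
    have e : Nat.card (Fin 4 × Cq r) =
        Nat.card ↥(Subgroup.normalizer ((Subgroup.zpowers r : Subgroup G) : Set G)) := by
      refine Nat.card_eq_of_bijective (fun p => ⟨f ^ (p.1 : ℕ) * p.2,
        mul_mem (pow_mem hnf _) (hCN p.2.2)⟩) ⟨?_, ?_⟩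
      · rintro ⟨n, a⟩ ⟨m, b⟩ eab
        have eab' : f ^ (n : ℕ) * (a : G) = f ^ (m : ℕ) * b := congrArg Subtype.val eab
        have hcq : ∀ (c : ↥(Cq r)) (k : ℕ), f ^ k * c * r * (f ^ k * c)⁻¹ = r ^ (2 ^ k % 5) := by
          intro c k
          rw [← hq, pow_mod_orderOf, ← hpow k]
          have := Subgroup.mem_centralizer_singleton_iff.1 c.2
          calc f ^ k * c * r * (f ^ k * c)⁻¹ = f ^ k * ((c : G) * r) * (c : G)⁻¹ * (f ^ k)⁻¹ := by group
            _ = f ^ k * (r * c) * (c : G)⁻¹ * (f ^ k)⁻¹ := by rw [this]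
            _ = _ := by group
        have he := (hcq a n).symm.trans ((by rw [eab'] : _ = _).trans (hcq b m))
        have := pow_injOn_Iio_orderOf (x := r)
          (show 2 ^ (n : ℕ) % 5 ∈ Set.Iio (orderOf r) by rw [hq]; exact Nat.mod_lt _ (by norm_num))
          (show 2 ^ (m : ℕ) % 5 ∈ Set.Iio (orderOf r) by rw [hq]; exact Nat.mod_lt _ (by norm_num)) he
        have key : ∀ n m : Fin 4, 2 ^ (n : ℕ) % 5 = 2 ^ (m : ℕ) % 5 → n = m := by decide
        obtain rfl := key n m this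
        rw [mul_right_inj] at eab'
        rw [Subtype.ext eab']
      · rintro ⟨g, hg⟩
        have hgr : g * r * g⁻¹ ∈ Subgroup.zpowers r :=
          (Subgroup.mem_normalizer_iff.1 hg r).1 (Subgroup.mem_zpowers r)
        obtain ⟨n, hn⟩ := exists_two_pow hq hgr (fun e => by
          rw [conj_eq_one_iff] at e
          rw [e, orderOf_one] at hq
          norm_num at hq)
        refine ⟨(n, ⟨(f ^ (n : ℕ))⁻¹ * g, Subgroup.mem_centralizer_singleton_iff.2 ?_⟩),
          Subtype.ext (mul_inv_cancel_left _ _)⟩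
        have := hn.trans (hpow n).symm
        calc (f ^ (n : ℕ))⁻¹ * g * r = (f ^ (n : ℕ))⁻¹ * (g * r * g⁻¹) * g := by group
          _ = (f ^ (n : ℕ))⁻¹ * (f ^ (n : ℕ) * r * (f ^ (n : ℕ))⁻¹) * g := by rw [this]
          _ = r * ((f ^ (n : ℕ))⁻¹ * g) := by group
    rw [← e, Nat.card_prod, Nat.card_fin, hCcard]
    norm_num

end CfsgLib.Spor.JankoFourFive
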