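import Cfsg.Agent.Lib.Spor.LargeJ4.NormChk

/-!
Kernel checks on the element of order five of the triple cover of `M22`.
-/

set_option autoImplicit false
set_option maxRecDepth 100000

namespace CfsgLib.Spor.JankoFourFive

open CfsgLib.Spor

/-- the fixed space of the element of order five of the triple cover of `M22` -/
def fixW : List ℕ := (List.range 4096).filter fun u =>
  Nat.beq (LargeFi.mvC LargeFi.J4.YC u) u

/-- code of the semilinear map commuting with the element of order five -/
def outC : ℕ := LargeFi.sMul (2 * LargeFi.J4.XC) LargeFi.J4.tauP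

open LargeFi LargeFi.J4 U62 in
theorem j4_checks :
    fixW.length = 16 ∧
    (fixW.any fun u => inM J4.smallM u) = true ∧ (fixW.any fun u => inM J4.bigM u) = true ∧
    (fixW.all fun u => Nat.beq u 0 || fixW.any fun w => Nat.beq (hC u w / 2) 1) = true ∧
    Nat.beq (sMul outC (2 * YC)) (sMul (2 * YC) outC) = true ∧
    Nat.beq (powC YC 5) oneC = true ∧ Nat.beq YC oneC = false ∧
    Nat.beq (sMul outC (2 * J4.omC)) (sMul (2 * mulC J4.omC J4.omC) outC) = true := by
  decide +kernel

end CfsgLib.Spor.JankoFourFive
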