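import Cfsg.Agent.Lib.Spor.LargeJ4.Setup
import Cfsg.Agent.Lib.Spor.JankoFourFive.ChecksCover
import Cfsg.Agent.Lib.Spor.JankoFourFive.CentT
import Cfsg.Agent.Lib.ThreeTransp.LargeQuotient

/-!
An element of order five inside the centraliser of the central involution of a group of
Janko-four type: its centraliser has order `960`, meets the core in an extraspecial group of order
`32` meeting both classes of noncentral involutions, and it is conjugate to its square.
-/

set_option autoImplicit false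
set_option maxRecDepth 100000
set_option maxHeartbeats 1000000
set_option linter.style.haveILetI false
set_option linter.unusedSectionVars false

namespace CfsgLib.Spor.JankoFourFive

open CfsgLib.Spor.LargeFi CfsgLib.Spor.LargeFi.J4 CfsgLib.Spor.U62
open Matrix

section General

variable {H : Type*} [Group H]

theorem card_map_mul_card_inf {A : Type*} [Group A] (f : H →* A) (K : Subgroup H) :
    Nat.card ↥(K.map f) * Nat.card ↥(K ⊓ f.ker) = Nat.card ↥K := by
  rw [Subgroup.card_eq_card_quotient_mul_card_subgroup (f.domRestrict K).ker,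
    Nat.card_congr (QuotientGroup.quotientKerEquivRange (f.domRestrict K)).toEquiv,
    MonoidHom.domRestrict_range]
  congr 1
  exact Nat.card_congr
    { toFun := fun a => ⟨⟨a.1, a.2.1⟩, a.2.2⟩
      invFun := fun a => ⟨a.1.1, a.1.2, a.2⟩
      left_inv := fun _ => rfl
      right_inv := fun _ => rfl }

end General

variable {H : Type*} [Group H] [Finite H] {Q : Subgroup H} [Q.Normal] {z : H} (Md : J4.Model Q z)

theorem act_mul (a b : H) (v : V6) : Md.act (a * b) v = Md.act a (Md.act b v) := by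
  rw [map_mul]; rfl

theorem act_one (v : V6) : Md.act 1 v = v := by rw [map_one]; rfl

theorem act_of_mem {a : H} (ha : a ∈ Q) (v : V6) : Md.act a v = v := by
  rw [(Md.ker_act a).2 ha]; rfl

theorem mk_eq_of_act {a b : H} (h : ∀ v, Md.act a v = Md.act b v) : (a : H ⧸ Q) = (b : H ⧸ Q) := by
  rw [QuotientGroup.eq, ← Md.ker_act]
  refine AddMonoidHom.ext fun v => ?_
  have h1 : Md.act (a⁻¹ * b) v = v := by
    rw [act_mul, ← h, ← act_mul, inv_mul_cancel, act_one]
  exact h1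

theorem z_sq (Md : J4.Model Q z) : z * z = 1 := Md.xc.inv

theorem vec_one : Md.vec 1 = 0 := (Md.vec_eq_zero 1).2 (Or.inl rfl)

theorem vec_inv (a : Q) : Md.vec a⁻¹ = Md.vec a := by
  have h := Md.vec_mul a⁻¹ a
  rw [inv_mul_cancel, vec_one] at h
  have h2 : Md.vec a + Md.vec a = 0 := funext fun i => CharTwo.add_self_eq_zero _
  calc Md.vec a⁻¹ = Md.vec a⁻¹ + (Md.vec a + Md.vec a) := by rw [h2, add_zero]
    _ = (Md.vec a⁻¹ + Md.vec a) + Md.vec a := (add_assoc _ _ _).symm
    _ = Md.vec a := by rw [← h, zero_add]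

theorem not_25_dvd (Md : J4.Model Q z) (K : Subgroup H) : ¬ 5 ^ 2 ∣ Nat.card ↥K := by
  intro h
  have := h.trans (Subgroup.card_subgroup_dvd_card K)
  rw [Md.card_H] at this
  norm_num at this

theorem mem_Q_pow (Md : J4.Model Q z) {a : H} (ha : a ∈ Q) {n : ℕ} (hn : 2 ^ 13 ∣ n) : a ^ n = 1 := by
  obtain ⟨k, rfl⟩ := hn
  have h : (⟨a, ha⟩ : Q) ^ Nat.card Q = 1 := pow_card_eq_one'
  rw [Md.card_Q] at h
  have h' : a ^ (2 ^ 13) = 1 := congrArg Subtype.val h
  rw [pow_mul, h', one_pow]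

theorem zpowers_inf_Q (Md : J4.Model Q z) {q : H} (hq : orderOf q = 5) {a : H}
    (h1 : a ∈ Subgroup.zpowers q) (h2 : a ∈ Q) : a = 1 := by
  have hd : orderOf a ∣ 5 := by
    obtain ⟨i, rfl⟩ := Subgroup.mem_zpowers_iff.1 h1
    refine orderOf_dvd_of_pow_eq_one ?_
    rw [← zpow_natCast, ← _root_.zpow_mul, mul_comm, _root_.zpow_mul, zpow_natCast, ← hq, pow_orderOf_eq_one,
      _root_.one_zpow]
  have hd' : orderOf a ∣ 2 ^ 13 := orderOf_dvd_of_pow_eq_one (mem_Q_pow Md h2 dvd_rfl)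
  rw [← orderOf_eq_one_iff]
  exact Nat.eq_one_of_dvd_coprimes (by norm_num) hd hd'

theorem eq_pow_of_mk (Md : J4.Model Q z) {q : H} (hq : orderOf q = 5) {a b : H}
    (h1 : a ∈ Subgroup.zpowers q) (h2 : b ∈ Subgroup.zpowers q)
    (h : (a : H ⧸ Q) = (b : H ⧸ Q)) : a = b :=
  inv_mul_eq_one.1 (zpowers_inf_Q Md hq
    ((Subgroup.zpowers q).mul_mem ((Subgroup.zpowers q).inv_mem h1) h2) (QuotientGroup.eq.1 h))

/-- an element normalising `q` modulo the core is corrected by a core element -/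
theorem exists_core_fix (Md : J4.Model Q z) {q k : H} (hq : orderOf q = 5) (i : ℕ)
    (h : ((k * q * k⁻¹ : H) : H ⧸ Q) = ((q ^ i : H) : H ⧸ Q)) :
    ∃ a ∈ Q, (a * k) * q * (a * k)⁻¹ = q ^ i := by
  haveI : Fact (Nat.Prime 5) := ⟨by norm_num⟩
  set r := k * q * k⁻¹ with hr
  set P := Q ⊔ Subgroup.zpowers q with hP
  have hqP : q ∈ P := Subgroup.mem_sup_right (Subgroup.mem_zpowers q)
  have hrP : r ∈ P := by
    have h1 : (q ^ i)⁻¹ * r ∈ Q := QuotientGroup.eq.1 h.symm
    have := P.mul_mem (P.pow_mem hqP i) (Subgroup.mem_sup_left h1)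
    rwa [mul_inv_cancel_left] at this
  have hro : orderOf r = 5 := by rw [hr, ← MulAut.conj_apply, MulEquiv.orderOf_eq, hq]
  obtain ⟨c, hc, q', hq', -, hcq⟩ :=
    exists_conj_of_card_prime (not_25_dvd Md P) hrP hqP hro hq
  obtain ⟨a, ha, b, hb, rfl⟩ := Subgroup.mem_sup_of_normal_left.1 hc
  obtain ⟨j, rfl⟩ := Subgroup.mem_zpowers_iff.1 hb
  have hq'i : q' = q ^ i := by
    refine eq_pow_of_mk Md hq hq' (Subgroup.npow_mem_zpowers q i) ?_
    have ha' : (a : H ⧸ Q) = 1 := (QuotientGroup.eq_one_iff a).2 ha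
    rw [← hcq, QuotientGroup.mk_mul, QuotientGroup.mk_mul, QuotientGroup.mk_inv,
      QuotientGroup.mk_mul, h, ha', one_mul, QuotientGroup.mk_zpow, QuotientGroup.mk_pow,
      mul_inv_eq_iff_eq_mul]
    exact ((Commute.refl _).pow_right i).zpow_left j
  subst hq'i
  refine ⟨(q ^ j)⁻¹ * a * q ^ j, ?_, ?_⟩
  · simpa using (inferInstance : Q.Normal).conj_mem a ha (q ^ j)⁻¹
  · have e : (q ^ j)⁻¹ * (q ^ i) * q ^ j = q ^ i := by
      rw [mul_assoc, inv_mul_eq_iff_eq_mul]
      exact (((Commute.refl q).pow_left i).zpow_right j).eq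
    rw [← e, ← hcq, hr]
    group

/-- a code of the cover is realised by an element of the subgroup of index two -/
theorem exists_lift {c : ℕ} (hc : In L0 c) :
    ∃ m ∈ Md.M, ∀ v, Md.act m v = ofCode c *ᵥ v := by
  obtain ⟨g, hg, e⟩ := hc
  obtain ⟨m, hm, hv⟩ := Md.L0_lift g hg
  exact ⟨m, hm, fun v => by rw [hv, mat_eq, e]⟩

/-- the coordinates moved by an inner automorphism -/
noncomputable def twist (c : H) : J4.Model Q z :=
  haveI : Md.M.Normal := Subgroup.normal_of_index_eq_two Md.M_index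
  { vec := fun a => Md.vec (MulAut.conjNormal c a)
    act := Md.act.comp (MulAut.conj c).toMonoidHom
    M := Md.M
    xc := Md.xc
    zc := Md.zc
    vec_mul := fun a b => by rw [map_mul, Md.vec_mul]
    vec_surj := Md.vec_surj.comp (MulAut.conjNormal c).surjective
    vec_eq_zero := fun a => by
      rw [Md.vec_eq_zero, MulAut.conjNormal_apply]
      refine or_congr ⟨fun e => ?_, fun e => by rw [e]; group⟩ ⟨fun e => ?_, fun e => ?_⟩
      · rwa [conj_eq_one_iff] at e
      · rw [mul_inv_eq_iff_eq_mul, ← Md.zc] at e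
        exact mul_left_cancel e
      · rw [e, Md.zc, mul_inv_cancel_right]
    vec_sq := fun a => by
      rw [← Md.vec_sq, MulAut.conjNormal_apply]
      constructor
      · intro e
        calc c * a * c⁻¹ * (c * a * c⁻¹) = c * ((a : H) * a) * c⁻¹ := by group
          _ = 1 := by rw [e]; group
      · intro e
        have e' : c * ((a : H) * a) * c⁻¹ = 1 := by rw [← e]; group
        rwa [conj_eq_one_iff] at e'
    vec_comm := fun a b => by
      rw [← Md.vec_comm, MulAut.conjNormal_apply, MulAut.conjNormal_apply]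
      constructor
      · intro e
        calc c * a * c⁻¹ * (c * b * c⁻¹) = c * ((a : H) * b) * c⁻¹ := by group
          _ = c * ((b : H) * a) * c⁻¹ := by rw [e]
          _ = _ := by group
      · intro e
        have e' : c * ((a : H) * b) * c⁻¹ = c * ((b : H) * a) * c⁻¹ := by
          calc _ = c * a * c⁻¹ * (c * b * c⁻¹) := by group
            _ = _ := e
            _ = _ := by group
        exact mul_left_cancel (mul_right_cancel e')
    vec_conj := fun h a => by
      show Md.vec (MulAut.conjNormal c (MulAut.conjNormal h a)) =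
        Md.act (c * h * c⁻¹) (Md.vec (MulAut.conjNormal c a))
      rw [← Md.vec_conj]
      refine congrArg Md.vec (Subtype.ext ?_)
      simp only [MulAut.conjNormal_apply]
      group
    ker_act := fun h => by
      show Md.act (c * h * c⁻¹) = 1 ↔ _
      rw [Md.ker_act]
      exact ⟨fun e => by simpa [mul_assoc] using (inferInstance : Q.Normal).conj_mem _ e c⁻¹,
        fun e => (inferInstance : Q.Normal).conj_mem _ e c⟩
    act_nf := fun h v => Md.act_nf _ v
    Q_le := Md.Q_le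
    M_index := Md.M_index
    M_lin := fun h hh => Md.M_lin _ ((inferInstance : Md.M.Normal).conj_mem h hh c)
    L0_lift := fun g hg => by
      obtain ⟨m, hm, e⟩ := Md.L0_lift g hg
      refine ⟨c⁻¹ * m * c, by simpa using (inferInstance : Md.M.Normal).conj_mem m hm c⁻¹, fun v => ?_⟩
      rw [← e]
      show Md.act (c * (c⁻¹ * m * c) * c⁻¹) v = _
      rw [show c * (c⁻¹ * m * c) * c⁻¹ = m by group]
    outer := by
      obtain ⟨m, hm, e⟩ := Md.outer
      refine ⟨c⁻¹ * m * c, fun h => hm ?_, fun v => ?_⟩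
      · have := (inferInstance : Md.M.Normal).conj_mem _ h c
        rwa [show c * (c⁻¹ * m * c) * c⁻¹ = m by group] at this
      · rw [← e]
        show Md.act (c * (c⁻¹ * m * c) * c⁻¹) v = _
        rw [show c * (c⁻¹ * m * c) * c⁻¹ = m by group]
    card_Q := Md.card_Q
    card_H := Md.card_H }

theorem twist_act (c h : H) : (twist Md c).act h = Md.act (c * h * c⁻¹) := rfl

include Md in
/-- every element of order five generates the same group as a standard one, after a twist -/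
theorem exists_std {q : H} (hq : orderOf q = 5) :
    ∃ Md' : J4.Model Q z, ∃ r ∈ Subgroup.zpowers q, orderOf r = 5 ∧
      ∀ v, Md'.act r v = ofCode YC *ᵥ v := by
  haveI : Fact (Nat.Prime 5) := ⟨by norm_num⟩
  obtain ⟨m, -, hm⟩ := exists_lift Md (gen_in YC (by simp))
  obtain ⟨Ye, -, hYe⟩ := gen_in YC (by simp)
  have hc := j4_checks.2.2.2.2.2
  have hY5 : Ye ^ 5 = 1 := cd_injective (by rw [cd_pow, hYe, Nat.eq_of_beq_eq_true hc.1, cd_one])
  have hY1 : Ye ≠ 1 := fun e => by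
    have h := hc.2.1
    rw [← hYe, e, cd_one, Nat.beq_refl] at h
    exact absurd h (by decide)
  have hpow : ∀ (n : ℕ) v, Md.act (m ^ n) v = mat (Ye ^ n) *ᵥ v := by
    intro n
    induction n with
    | zero => intro v; rw [pow_zero, pow_zero, act_one, map_one, Matrix.one_mulVec]
    | succ n ih =>
      intro v
      rw [pow_succ, pow_succ, act_mul, ih, hm, map_mul, ← Matrix.mulVec_mulVec, mat_eq Ye, hYe]
  set s := m ^ (2 ^ 16) with hs
  have hsact : ∀ v, Md.act s v = ofCode YC *ᵥ v := by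
    intro v
    rw [hs, hpow, show (2 ^ 16 : ℕ) = 5 * 13107 + 1 by norm_num, pow_succ, pow_mul, hY5, one_pow,
      one_mul, mat_eq, hYe]
  have h5 : m ^ 5 ∈ Q := (Md.ker_act _).1 (AddMonoidHom.ext fun v => (hpow 5 v).trans (by
    rw [hY5, map_one, Matrix.one_mulVec]; rfl))
  have hso : orderOf s = 5 := by
    refine orderOf_eq_prime ?_ fun e => hY1 (mat_injective ?_)
    · rw [hs, ← pow_mul, mul_comm, pow_mul]
      exact mem_Q_pow Md h5 (by norm_num)
    · refine Matrix.ext_of_mulVec_single fun j => ?_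
      rw [mat_eq, hYe, ← hsact, e, act_one, map_one, Matrix.one_mulVec]
  obtain ⟨c, -, q', hq', hq1, hcq⟩ := exists_conj_of_card_prime (H := ⊤) (p := 5)
    (not_25_dvd Md ⊤) (Subgroup.mem_top q) (Subgroup.mem_top s) hq hso
  refine ⟨twist Md c, c⁻¹ * s * c, ?_, ?_, fun v => ?_⟩
  · have hle : Subgroup.zpowers q' = Subgroup.zpowers s := by
      refine Subgroup.eq_of_le_of_card_ge (Subgroup.zpowers_le.2 hq') ?_
      rw [Nat.card_zpowers, Nat.card_zpowers, hso, ← hcq, ← MulAut.conj_apply, MulEquiv.orderOf_eq,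
        hq]
    have hs' : s ∈ Subgroup.zpowers q' := hle ▸ Subgroup.mem_zpowers s
    obtain ⟨i, hi⟩ := Subgroup.mem_zpowers_iff.1 hs'
    refine Subgroup.mem_zpowers_iff.2 ⟨i, ?_⟩
    rw [← hi, ← hcq, conj_zpow]
    group
  · rw [show c⁻¹ * s * c = MulAut.conj c⁻¹ s by simp, MulEquiv.orderOf_eq, hso]
  · rw [twist_act, show c * (c⁻¹ * s * c) * c⁻¹ = s by group, hsact]

section Std

variable {q : H} (hq : orderOf q = 5) (hact : ∀ v, Md.act q v = ofCode YC *ᵥ v)

include hact in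
theorem vc_act (v : V6) : vc (Md.act q v) = mvC YC (vc v) := by
  rw [hact, vc_mulVec]

theorem mem_fixW {u : ℕ} : u ∈ fixW ↔ u < 4096 ∧ mvC YC u = u := by
  simp [fixW]

include hact in
theorem fixW_iff (v : V6) : vc v ∈ fixW ↔ Md.act q v = v := by
  rw [mem_fixW, ← vc_act Md hact]
  exact ⟨fun h => vc_injective h.2, fun h => ⟨vc_lt v, by rw [h]⟩⟩

include hq hact in
theorem mem_cent_iff (a : Q) :
    (a : H) ∈ Subgroup.centralizer ({q} : Set H) ↔ vc (Md.vec a) ∈ fixW := by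
  rw [fixW_iff Md hact, ← Md.vec_conj, Subgroup.mem_centralizer_singleton_iff]
  constructor
  · intro h
    refine congrArg Md.vec (Subtype.ext ?_)
    rw [MulAut.conjNormal_apply, ← h, mul_inv_cancel_right]
  · intro h
    have h0 : Md.vec (MulAut.conjNormal q a * a⁻¹) = 0 := by
      rw [Md.vec_mul, vec_inv, h]
      exact funext fun i => CharTwo.add_self_eq_zero _
    have hd : q * (a : H) * q⁻¹ * (a : H)⁻¹ = 1 ∨ q * (a : H) * q⁻¹ * (a : H)⁻¹ = z := by
      simpa [MulAut.conjNormal_apply] using (Md.vec_eq_zero _).1 h0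
    rcases hd with h1 | h1
    · rw [mul_inv_eq_one, mul_inv_eq_iff_eq_mul] at h1
      exact h1.symm
    · exfalso
      rw [mul_inv_eq_iff_eq_mul] at h1
      have hk : ∀ n : ℕ, q ^ n * (a : H) * (q ^ n)⁻¹ = z ^ n * a := by
        intro n
        induction n with
        | zero => simp
        | succ n ih =>
          calc q ^ (n + 1) * (a : H) * (q ^ (n + 1))⁻¹
              = q * (q ^ n * a * (q ^ n)⁻¹) * q⁻¹ := by rw [pow_succ']; group
            _ = q * (z ^ n * a) * q⁻¹ := by rw [ih]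
            _ = z ^ n * (q * a * q⁻¹) := by
              rw [← mul_assoc q, (Commute.pow_right (Md.zc q) n).eq]
              group
            _ = z ^ (n + 1) * a := by rw [h1, pow_succ, mul_assoc]
      have h5 := hk 5
      rw [show q ^ 5 = 1 by rw [← hq, pow_orderOf_eq_one], one_mul, inv_one, mul_one,
        show z ^ 5 = (z * z) * (z * z) * z by simp only [pow_succ, pow_zero, one_mul, mul_assoc], z_sq Md, one_mul, one_mul] at h5
      exact Md.xc.ne_one (mul_eq_right.1 h5.symm)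

include hq hact in
theorem exists_of_fixW {u : ℕ} (hu : u ∈ fixW) :
    ∃ a : Q, (a : H) ∈ Subgroup.centralizer ({q} : Set H) ∧ vc (Md.vec a) = u := by
  obtain ⟨a, ha⟩ := Md.vec_surj (LargeFi.vOf u)
  have h : vc (Md.vec a) = u := by rw [ha, vc_vOf (mem_fixW.1 hu).1]
  exact ⟨a, (mem_cent_iff Md hq hact a).2 (by rw [h]; exact hu), h⟩

include hq hact in
theorem card_core_cent : Nat.card ↥(Q ⊓ Subgroup.centralizer ({q} : Set H)) = 32 := by
  classical
  let f : ↥(Q ⊓ Subgroup.centralizer ({q} : Set H)) →* Multiplicative V6 :=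
    { toFun := fun a => Multiplicative.ofAdd (Md.vec ⟨a.1, a.2.1⟩)
      map_one' := by simp only [OneMemClass.coe_one]; exact congrArg Multiplicative.ofAdd (vec_one Md)
      map_mul' := fun a b => by
        rw [← ofAdd_add, ← Md.vec_mul]; rfl }
  rw [Subgroup.card_eq_card_quotient_mul_card_subgroup f.ker,
    Nat.card_congr (QuotientGroup.quotientKerEquivRange f).toEquiv]
  have hrange : Nat.card f.range = 16 := by
    have hnd : fixW.Nodup := (List.nodup_range).filter _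
    rw [← j4_checks.1, ← List.toFinset_card_of_nodup hnd, ← Fintype.card_coe,
      ← Nat.card_eq_fintype_card]
    refine Nat.card_eq_of_bijective (fun y => ⟨vc (Multiplicative.toAdd y.1), ?_⟩) ⟨?_, ?_⟩
    · obtain ⟨y, a, rfl⟩ := y
      exact List.mem_toFinset.2 ((mem_cent_iff Md hq hact ⟨a.1, a.2.1⟩).1 a.2.2)
    · intro y y' e
      exact Subtype.ext (Multiplicative.toAdd.injective (vc_injective (congrArg Subtype.val e)))
    · rintro ⟨u, hu⟩
      obtain ⟨a, ha, e⟩ := exists_of_fixW Md hq hact (List.mem_toFinset.1 hu)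
      exact ⟨⟨_, ⟨a.1, a.2, ha⟩, rfl⟩, Subtype.ext e⟩
  have hker : Nat.card f.ker = 2 := by
    have hzQ : z ∈ Q := by
      obtain ⟨a, ha⟩ := Md.vec_surj 0
      exact Md.xc.mem
    have hzc : z ∈ Subgroup.centralizer ({q} : Set H) :=
      Subgroup.mem_centralizer_singleton_iff.2 (Md.zc q).symm
    have hz0 : Md.vec ⟨z, hzQ⟩ = 0 := (Md.vec_eq_zero _).2 (Or.inr rfl)
    rw [Nat.card_eq_two_iff]
    refine ⟨1, ⟨⟨z, hzQ, hzc⟩, congrArg Multiplicative.ofAdd hz0⟩, fun e => ?_, ?_⟩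
    · exact Md.xc.ne_one (congrArg (fun w => w.1.1) e).symm
    · refine Set.eq_univ_of_forall fun w => ?_
      obtain ⟨⟨a, ha⟩, hw⟩ := w
      have h0 : Md.vec ⟨a, ha.1⟩ = 0 := Multiplicative.ofAdd.injective hw
      rcases (Md.vec_eq_zero _).1 h0 with rfl | rfl
      · exact Or.inl rfl
      · exact Or.inr rfl
  rw [hrange, hker]

include hq hact in
theorem extraspecial_core_cent :
    Cfsg.IsExtraspecial 2 ↥(Q ⊓ Subgroup.centralizer ({q} : Set H)) := by
  have hzQ : z ∈ Q := Md.xc.mem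
  have hnd : ∀ d (hd : d ∈ Q), d ∈ Subgroup.centralizer ({q} : Set H) → d ≠ 1 → d ≠ z →
      ∃ e ∈ Q ⊓ Subgroup.centralizer ({q} : Set H), e * d ≠ d * e := by
    intro d hd hdc hd1 hdz
    have hu : vc (Md.vec ⟨d, hd⟩) ∈ fixW := (mem_cent_iff Md hq hact ⟨d, hd⟩).1 hdc
    have h := List.all_eq_true.1 j4_checks.2.2.2.1 _ hu
    simp only [Bool.or_eq_true, List.any_eq_true, Nat.beq_eq] at h
    rcases h with h | ⟨w, hw, hwh⟩
    · exfalso
      rcases (Md.vec_eq_zero ⟨d, hd⟩).1 (vc_injective (h.trans J4.vc_zero.symm)) with e | e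
      exacts [hd1 e, hdz e]
    · obtain ⟨b, hb, hbw⟩ := exists_of_fixW Md hq hact hw
      refine ⟨b, ⟨b.2, hb⟩, fun e => ?_⟩
      have hc := (Md.vec_comm ⟨d, hd⟩ b).1 e.symm
      have h1 : kOf (hC (vc (Md.vec ⟨d, hd⟩)) (vc (Md.vec b))) =
          Cfsg.hermForm 6 K4 2 (Md.vec ⟨d, hd⟩) (Md.vec b) := by
        rw [J4.kOf_hC, vOf_vc, vOf_vc]
      rw [← h1, hbw] at hc
      have h2 : ((hC (vc (Md.vec ⟨d, hd⟩)) w / 2 : ℕ) : ZMod 2) = 0 := hc
      rw [hwh] at h2
      exact one_ne_zero (Nat.cast_one (R := ZMod 2) ▸ h2)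
  refine (CfsgLib.ThreeTransp.isExtraspecial_of (Q ⊓ Subgroup.centralizer ({q} : Set H)) (z := z)
    ?_ ⟨hzQ, Subgroup.mem_centralizer_singleton_iff.2 (Md.zc q).symm⟩ Md.xc.ne_one (z_sq Md)
    (fun e _ => Md.zc e) ?_ ?_ ?_ ?_).1
  · exact IsPGroup.of_card (n := 5) (by rw [card_core_cent Md hq hact]; norm_num)
  · intro a ha b hb
    have h0 : Md.vec (⟨a, ha.1⟩ * ⟨b, hb.1⟩ * ⟨a, ha.1⟩⁻¹ * ⟨b, hb.1⟩⁻¹) = 0 := by
      rw [Md.vec_mul, Md.vec_mul, Md.vec_mul, vec_inv, vec_inv]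
      have h2 : ∀ v : V6, v + v = 0 := fun v => funext fun i => CharTwo.add_self_eq_zero _
      rw [add_right_comm (Md.vec ⟨a, ha.1⟩), h2, zero_add, h2]
    exact (Md.vec_eq_zero _).1 h0
  · intro a ha
    have h0 : Md.vec (⟨a, ha.1⟩ * ⟨a, ha.1⟩) = 0 := by
      rw [Md.vec_mul]; exact funext fun i => CharTwo.add_self_eq_zero _
    exact (Md.vec_eq_zero _).1 h0
  · intro d hd hc
    by_contra hne
    push Not at hne
    obtain ⟨e, he, hed⟩ := hnd d hd.1 hd.2 hne.1 hne.2
    exact hed (hc e he)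
  · obtain ⟨u, hu, hus⟩ := List.any_eq_true.1 j4_checks.2.1
    obtain ⟨a, ha, hau⟩ := exists_of_fixW Md hq hact hu
    have hS : J4.Small (Md.vec a) := by rw [J4.Small, hau]; exact J4.mem_smallL.2 hus
    have hv := (J4.small_isotropic hS).2.1
    have h1 : (a : H) ≠ 1 := fun e => hv ((Md.vec_eq_zero a).2 (Or.inl e))
    have h2 : (a : H) ≠ z := fun e => hv ((Md.vec_eq_zero a).2 (Or.inr e))
    obtain ⟨e, he, hed⟩ := hnd a a.2 ha h1 h2
    exact ⟨e, he, a, ⟨a.2, ha⟩, hed⟩

include hq hact in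
/-- every noncentral involution of the core is conjugate to one commuting with `q` -/
theorem exists_conj_cent {b : H} (hb : b ∈ Q) (hb1 : b ≠ 1) (hbz : b ≠ z) (hb2 : b * b = 1) :
    ∃ h : H, h * b * h⁻¹ ∈ Q ∧ h * b * h⁻¹ ∈ Subgroup.centralizer ({q} : Set H) ∧
      h * b * h⁻¹ ≠ z := by
  set v := Md.vec ⟨b, hb⟩ with hv
  have hv0 : v ≠ 0 := fun e => by
    rcases (Md.vec_eq_zero ⟨b, hb⟩).1 e with e' | e'
    exacts [hb1 e', hbz e']
  have hn : nf v = 0 := (Md.vec_sq ⟨b, hb⟩).1 hb2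
  have key : ∃ l ∈ L0, vc (mat l *ᵥ v) ∈ fixW ∧ mat l *ᵥ v ≠ 0 := by
    rcases J4.isotropic_cases hn hv0 with hS | hB
    · obtain ⟨u, hu, hus⟩ := List.any_eq_true.1 j4_checks.2.1
      have hw : J4.Small (LargeFi.vOf u) := by
        rw [J4.Small, vc_vOf (mem_fixW.1 hu).1]; exact J4.mem_smallL.2 hus
      obtain ⟨l1, h1, e1⟩ := J4.small_orbit hS
      obtain ⟨l2, h2, e2⟩ := J4.small_orbit hw
      have e : mat (l2 * l1⁻¹) *ᵥ v = LargeFi.vOf u := by
        rw [← e1, Matrix.mulVec_mulVec, ← map_mul, inv_mul_cancel_right, e2]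
      exact ⟨_, L0.mul_mem h2 (L0.inv_mem h1), by rw [e, vc_vOf (mem_fixW.1 hu).1]; exact hu,
        by rw [e]; exact (J4.small_isotropic hw).2.1⟩
    · obtain ⟨u, hu, hub⟩ := List.any_eq_true.1 j4_checks.2.2.1
      have hw : J4.Big (LargeFi.vOf u) := by
        rw [J4.Big, vc_vOf (mem_fixW.1 hu).1]; exact J4.mem_bigL.2 hub
      obtain ⟨l1, h1, e1⟩ := J4.big_orbit hB
      obtain ⟨l2, h2, e2⟩ := J4.big_orbit hw
      have e : mat (l2 * l1⁻¹) *ᵥ v = LargeFi.vOf u := by
        rw [← e1, Matrix.mulVec_mulVec, ← map_mul, inv_mul_cancel_right, e2]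
      exact ⟨_, L0.mul_mem h2 (L0.inv_mem h1), by rw [e, vc_vOf (mem_fixW.1 hu).1]; exact hu,
        by rw [e]; exact (J4.big_isotropic hw).2⟩
  obtain ⟨l, hl, hfix, hne⟩ := key
  obtain ⟨m, -, hm⟩ := Md.L0_lift l hl
  have he : Md.vec (MulAut.conjNormal m ⟨b, hb⟩) = mat l *ᵥ v := by rw [Md.vec_conj, hm]
  refine ⟨m, (MulAut.conjNormal m ⟨b, hb⟩).2, ?_, fun e => ?_⟩
  · exact (mem_cent_iff Md hq hact (MulAut.conjNormal m ⟨b, hb⟩)).2 (he ▸ hfix)
  · exact hne (he ▸ (Md.vec_eq_zero _).2 (Or.inr e))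

include hq hact in
/-- the element of order three, and an outer element inverting it modulo the core -/
theorem exists_three :
    ∃ x ∈ Md.M, ∃ h, h ∉ Md.M ∧ x ∈ Subgroup.centralizer ({q} : Set H) ∧
      h ∈ Subgroup.centralizer ({q} : Set H) ∧ orderOf x = 3 ∧
      (∀ a ∈ Q, a * x = x * a → a = 1 ∨ a = z) ∧ h * x * h⁻¹ * x ∈ Q := by
  have hom0 : om ≠ 1 := by decide +kernel
  have hscal : ∀ v, ofCode J4.omC *ᵥ v = om • v := fun v => by
    rw [omC_mat, Matrix.smul_mulVec, Matrix.one_mulVec]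
  have hs2 : ∀ (c : ℕ) v, sAct (2 * c) v = ofCode c *ᵥ v := sAct_two_mul
  obtain ⟨x0, hx0M, hx0⟩ := exists_lift Md (base_in J4.omC List.mem_cons_self)
  obtain ⟨a, ha, hax⟩ := exists_core_fix Md hq 1 (k := x0) (by
    rw [pow_one]
    refine mk_eq_of_act Md fun v => ?_
    have e : ∀ w, Md.act x0 w = om • w := fun w => by rw [hx0, hscal]
    rw [act_mul, act_mul, hact, hact, e, ← Matrix.mulVec_smul, ← e, ← act_mul, mul_inv_cancel,
      act_one])
  rw [pow_one] at hax
  have hy : ∀ v, Md.act (a * x0) v = om • v := fun v => by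
    rw [act_mul, act_of_mem Md ha, hx0, hscal]
  have hyc : a * x0 ∈ Subgroup.centralizer ({q} : Set H) :=
    Subgroup.mem_centralizer_singleton_iff.2 (mul_inv_eq_iff_eq_mul.1 hax)
  set x := (a * x0) ^ (2 ^ 14) with hx
  have hpow : ∀ (n : ℕ) v, Md.act ((a * x0) ^ n) v = (om ^ n) • v := by
    intro n
    induction n with
    | zero => intro v; rw [pow_zero, pow_zero, act_one, one_smul]
    | succ n ih => intro v; rw [pow_succ, act_mul, hy, ih, smul_smul, ← pow_succ]
  have hxact : ∀ v, Md.act x v = om • v := fun v => by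
    rw [hx, hpow, show (2 ^ 14 : ℕ) = 3 * 5461 + 1 by norm_num, pow_succ, pow_mul, om_cube, one_pow,
      one_mul]
  have h3 : (a * x0) ^ 3 ∈ Q := (Md.ker_act _).1 (AddMonoidHom.ext fun v => (hpow 3 v).trans (by
    rw [om_cube, one_smul]; rfl))
  have hx3 : x ^ 3 = 1 := by
    rw [hx, ← pow_mul, mul_comm, pow_mul]
    exact mem_Q_pow Md h3 (by norm_num)
  have hsingle : om • (Pi.single 0 1 : V6) ≠ Pi.single 0 1 := by
    intro e
    have := congrFun e 0
    rw [Pi.smul_apply, Pi.single_eq_same, smul_eq_mul, mul_one] at this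
    exact hom0 this
  have hxo : orderOf x = 3 := by
    haveI : Fact (Nat.Prime 3) := ⟨by norm_num⟩
    exact orderOf_eq_prime hx3 fun e => hsingle (by rw [← hxact, e, act_one])
  obtain ⟨m0, hm0, hm0v⟩ := exists_lift Md (gen_in XC (by simp))
  obtain ⟨k0, hk0, hk0v⟩ := Md.outer
  have hh0 : ∀ v, Md.act (m0 * k0) v = sAct outC v := fun v => by
    rw [act_mul, hk0v, hm0v, outC, sAct_sMul, hs2]
  obtain ⟨b, hb, hbh⟩ := exists_core_fix Md hq 1 (k := m0 * k0) (by
    rw [pow_one]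
    refine mk_eq_of_act Md fun v => ?_
    have e : ∀ w, Md.act (m0 * k0) (Md.act q w) = Md.act q (Md.act (m0 * k0) w) := fun w => by
      rw [hh0, hh0, hact, hact, ← hs2 YC, ← hs2 YC, ← sAct_sMul, ← sAct_sMul,
        Nat.eq_of_beq_eq_true j4_checks.2.2.2.2.1]
    rw [act_mul Md _ (m0 * k0)⁻¹, act_mul Md _ q, e, ← act_mul Md (m0 * k0), mul_inv_cancel,
      act_one])
  rw [pow_one] at hbh
  set h := b * (m0 * k0) with hh
  have hhact : ∀ v, Md.act h v = sAct outC v := fun v => by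
    rw [hh, act_mul, act_of_mem Md hb, hh0]
  refine ⟨x, Md.M.pow_mem (Md.M.mul_mem (Md.Q_le ha) hx0M) _, h, fun hM => hk0 ?_,
    Subgroup.pow_mem _ hyc _,
    Subgroup.mem_centralizer_singleton_iff.2 (mul_inv_eq_iff_eq_mul.1 hbh), hxo, ?_, ?_⟩
  · have := Md.M.mul_mem (Md.M.inv_mem hm0) (Md.M.mul_mem (Md.M.inv_mem (Md.Q_le hb)) hM)
    rwa [hh, inv_mul_cancel_left, inv_mul_cancel_left] at this
  · intro d hd hdx
    have e : Md.vec (MulAut.conjNormal x ⟨d, hd⟩) = Md.vec ⟨d, hd⟩ :=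
      congrArg Md.vec (Subtype.ext (by rw [MulAut.conjNormal_apply, ← hdx, mul_inv_cancel_right]))
    rw [Md.vec_conj, hxact] at e
    have h0 : Md.vec ⟨d, hd⟩ = 0 := funext fun i => by
      have hi := congrFun e i
      rw [Pi.smul_apply, smul_eq_mul] at hi
      by_contra hne
      exact hom0 (mul_right_cancel₀ hne (hi.trans (one_mul _).symm))
    exact (Md.vec_eq_zero _).1 h0
  · have key : ((h * x : H) : H ⧸ Q) = ((x * x * h : H) : H ⧸ Q) := by
      refine mk_eq_of_act Md fun v => ?_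
      have c8 := Nat.eq_of_beq_eq_true j4_checks.2.2.2.2.2.2.2
      rw [act_mul Md h x, act_mul Md (x * x) h, act_mul Md x x, hxact, hxact, hxact, hhact, hhact, ← hscal v, ← hs2,
        ← sAct_sMul, c8, sAct_sMul, hs2, ofCode_mulC, ← Matrix.mulVec_mulVec, hscal, hscal]
    clear_value h x
    rw [QuotientGroup.mk_mul, QuotientGroup.mk_mul, QuotientGroup.mk_mul] at key
    rw [← QuotientGroup.eq_one_iff, QuotientGroup.mk_mul, QuotientGroup.mk_mul,
      QuotientGroup.mk_mul, QuotientGroup.mk_inv, key, mul_inv_cancel_right, ← QuotientGroup.mk_mul,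
      ← QuotientGroup.mk_mul, ← pow_two, ← pow_succ, hx3, QuotientGroup.mk_one]

include hq hact in
/-- `q` is conjugate to its square -/
theorem exists_square_conj : ∃ f : H, f * q * f⁻¹ = q ^ 2 := by
  obtain ⟨k, -, hk⟩ := exists_lift Md (gen_in FC (by simp))
  obtain ⟨Ye, -, hYe⟩ := gen_in YC (by simp)
  have hrel := XY_rel
  simp only [Bool.and_eq_true, Nat.beq_eq] at hrel
  have hFY : ofCode FC * ofCode YC = ofCode YC * ofCode YC * ofCode FC := by
    rw [← ofCode_mulC, hrel.2, ofCode_mulC, YC2, ← hYe, ← cd_pow, ← mat_eq, pow_two, map_mul,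
      mat_eq]
  obtain ⟨a, -, hak⟩ := exists_core_fix Md hq 2 (k := k) (mk_eq_of_act Md fun v => by
    have e : ∀ w, Md.act k (Md.act q w) = Md.act (q ^ 2) (Md.act k w) := fun w => by
      rw [pow_two, act_mul, hk, hk, hact, hact, hact, Matrix.mulVec_mulVec, Matrix.mulVec_mulVec,
        Matrix.mulVec_mulVec, hFY]
    rw [act_mul, act_mul, e, ← act_mul Md k, mul_inv_cancel, act_one])
  exact ⟨a * k, hak⟩

include hq hact in
theorem card_cent_std (N : Subgroup H) [N.Normal] (hQN : Q ≤ N)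
    (hN : Nat.card N = 3 * Nat.card Q) (eN : H ⧸ N ≃* MulAut Cfsg.Spor.M22) :
    Nat.card ↥(Subgroup.centralizer ({q} : Set H)) = 960 := by
  haveI : Fact (Nat.Prime 5) := ⟨by norm_num⟩
  haveI : Fact (Nat.Prime 2) := ⟨by norm_num⟩
  set K := Subgroup.centralizer ({q} : Set H) with hK
  have hE : Nat.card ↥(Q ⊓ K) = 32 := card_core_cent Md hq hact
  refine le_antisymm ?_ ?_
  · have hqN : q ∉ N := fun h => by
      have h5 : orderOf q ∣ Nat.card N := Subgroup.orderOf_dvd_natCard N h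
      rw [hq, hN, Md.card_Q] at h5
      norm_num at h5
    have hq' : orderOf (eN (q : H ⧸ N)) = 5 := by
      rw [MulEquiv.orderOf_eq]
      refine orderOf_eq_prime ?_ fun e => hqN ((QuotientGroup.eq_one_iff q).1 e)
      rw [← QuotientGroup.mk_pow, ← hq, pow_orderOf_eq_one, QuotientGroup.mk_one]
    have himg : Nat.card ↥(K.map (QuotientGroup.mk' N)) ≤ 10 := by
      rw [← card_centralizer_aut_five _ hq',
        ← Subgroup.card_map_of_injective (K := K.map (QuotientGroup.mk' N)) eN.injective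
          (f := eN.toMonoidHom)]
      refine Subgroup.card_le_of_le ?_
      rw [Subgroup.map_map]
      rintro _ ⟨g, hg, rfl⟩
      rw [Subgroup.mem_centralizer_singleton_iff]
      show eN (g : H ⧸ N) * eN (q : H ⧸ N) = eN (q : H ⧸ N) * eN (g : H ⧸ N)
      rw [← map_mul, ← map_mul, ← QuotientGroup.mk_mul, ← QuotientGroup.mk_mul,
        Subgroup.mem_centralizer_singleton_iff.1 hg]
    have h1 := card_map_mul_card_inf (QuotientGroup.mk' N) K
    have h2 := card_map_mul_card_inf (QuotientGroup.mk' Q) (K ⊓ N)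
    have h3 := card_map_mul_card_inf (QuotientGroup.mk' Q) N
    rw [QuotientGroup.ker_mk'] at h1 h2 h3
    rw [inf_eq_right.2 hQN, hN, Md.card_Q] at h3
    have h4 : K ⊓ N ⊓ Q = Q ⊓ K := by
      rw [inf_assoc, inf_eq_right.2 hQN, inf_comm]
    rw [h4, hE] at h2
    have h5 : Nat.card ↥((K ⊓ N).map (QuotientGroup.mk' Q)) ≤ 3 := by
      refine (Subgroup.card_le_of_le (Subgroup.map_mono inf_le_right)).trans ?_
      omega
    rw [← h1, ← h2]
    calc _ ≤ 10 * (3 * 32) := Nat.mul_le_mul himg (Nat.mul_le_mul_right 32 h5)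
      _ = 960 := by norm_num
  · obtain ⟨x, hxM, h, hhM, hxK, hhK, hxo, -, -⟩ := exists_three Md hq hact
    haveI : Md.M.Normal := Subgroup.normal_of_index_eq_two Md.M_index
    have hqM : q ∈ Md.M := by
      have := Subgroup.sq_mem_of_index_two Md.M_index (q ^ 3)
      rwa [← pow_mul, show 3 * 2 = 5 + 1 from rfl, pow_succ,
        show q ^ 5 = 1 by rw [← hq, pow_orderOf_eq_one], one_mul] at this
    have hqK : q ∈ K := Subgroup.mem_centralizer_singleton_iff.2 rfl
    have d32 : 32 ∣ Nat.card ↥(K ⊓ Md.M) :=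
      hE ▸ Subgroup.card_dvd_of_le (le_inf inf_le_right (inf_le_left.trans Md.Q_le))
    have d5 : 5 ∣ Nat.card ↥(K ⊓ Md.M) :=
      hq ▸ Subgroup.orderOf_dvd_natCard _ (show q ∈ K ⊓ Md.M from ⟨hqK, hqM⟩)
    have d3 : 3 ∣ Nat.card ↥(K ⊓ Md.M) :=
      hxo ▸ Subgroup.orderOf_dvd_natCard _ (show x ∈ K ⊓ Md.M from ⟨hxK, hxM⟩)
    have d480 : 480 ∣ Nat.card ↥(K ⊓ Md.M) :=
      Nat.Coprime.mul_dvd_of_dvd_of_dvd (m := 96) (n := 5) (by norm_num)
        (Nat.Coprime.mul_dvd_of_dvd_of_dvd (m := 32) (n := 3) (by norm_num) d32 d3) d5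
    have h1 := card_map_mul_card_inf (QuotientGroup.mk' Md.M) K
    rw [QuotientGroup.ker_mk'] at h1
    have h2 : 2 ≤ Nat.card ↥(K.map (QuotientGroup.mk' Md.M)) := by
      haveI : Nontrivial ↥(K.map (QuotientGroup.mk' Md.M)) :=
        ⟨⟨⟨_, ⟨h, hhK, rfl⟩⟩, 1, fun e => hhM ((QuotientGroup.eq_one_iff h).1 (congrArg Subtype.val e))⟩⟩
      exact Finite.one_lt_card
    rw [← h1]
    calc 960 = 2 * 480 := by norm_num
      _ ≤ _ := Nat.mul_le_mul h2 (Nat.le_of_dvd Nat.card_pos d480)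

end Std

include Md in
/-- The centraliser of an element of order five in the centraliser of the central involution. -/
theorem five_local (N : Subgroup H) [N.Normal] (hQN : Q ≤ N) (hN : Nat.card N = 3 * Nat.card Q)
    (eN : H ⧸ N ≃* MulAut Cfsg.Spor.M22) {q : H} (hq : orderOf q = 5) :
    Nat.card ↥(Subgroup.centralizer ({q} : Set H)) = 960 ∧
    Nat.card ↥(Q ⊓ Subgroup.centralizer ({q} : Set H)) = 32 ∧
    Cfsg.IsExtraspecial 2 ↥(Q ⊓ Subgroup.centralizer ({q} : Set H)) ∧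
    (∃ x ∈ Subgroup.centralizer ({q} : Set H), ∃ h ∈ Subgroup.centralizer ({q} : Set H),
      orderOf x = 3 ∧ (∀ a ∈ Q, a * x = x * a → a = 1 ∨ a = z) ∧ h * x * h⁻¹ * x ∈ Q) ∧
    (∀ b ∈ Q, b ≠ 1 → b ≠ z → b * b = 1 → ∃ h : H, h * b * h⁻¹ ∈ Q ∧
      h * b * h⁻¹ ∈ Subgroup.centralizer ({q} : Set H) ∧ h * b * h⁻¹ ≠ z) ∧
    ∃ f : H, f * q * f⁻¹ = q ^ 2 := by
  haveI : Fact (Nat.Prime 5) := ⟨by norm_num⟩
  obtain ⟨Md', r, hr, hro, hact⟩ := exists_std Md hq
  have hr1 : r ≠ 1 := fun e => by rw [e, orderOf_one] at hro; norm_num at hro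
  rw [← centralizer_eq_of_mem_zpowers hq hr hr1]
  obtain ⟨x, -, h, -, hx, hh, h1, h2, h3⟩ := exists_three Md' hro hact
  refine ⟨card_cent_std Md' hro hact N hQN hN eN, card_core_cent Md' hro hact,
    extraspecial_core_cent Md' hro hact, ⟨x, hx, h, hh, h1, h2, h3⟩,
    fun b => exists_conj_cent Md' hro hact, ?_⟩
  obtain ⟨f, hf⟩ := exists_square_conj Md' hro hact
  refine ⟨f, ?_⟩
  have hqr : q ∈ Subgroup.zpowers r := by
    rw [Subgroup.eq_of_le_of_card_ge (Subgroup.zpowers_le.2 hr)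
      (by rw [Nat.card_zpowers, Nat.card_zpowers, hq, hro])]
    exact Subgroup.mem_zpowers q
  obtain ⟨i, rfl⟩ := Subgroup.mem_zpowers_iff.1 hqr
  rw [← conj_zpow, hf, ← zpow_natCast, ← zpow_natCast, ← _root_.zpow_mul, ← _root_.zpow_mul, mul_comm]

end CfsgLib.Spor.JankoFourFive
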